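import Mathlib
import Cfsg.Agent.Char.IndTI
import Cfsg.Agent.Char.IndRep
import Cfsg.Agent.Char.Kernel
import Cfsg.Agent.Char.Central
import Cfsg.Agent.RankOne.TICount

set_option autoImplicit false
set_option linter.unusedSectionVars false

/-! Sums over TI subgroups and characters induced from self-centralising abelian subgroups. -/

open scoped ComplexConjugate

namespace Cfsg.Agent.SzC

open Cfsg Cfsg.Agent.Char Cfsg.Agent.Char.Ind Cfsg.Agent.RankOne

variable {G : Type*} [Group G] [Fintype G]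

open Classical in
/-- the sum over the nonidentity elements of a subgroup. -/
noncomputable def sig (H : Subgroup G) (f : G → ℂ) : ℂ := ∑ x with (x ∈ H ∧ x ≠ 1), f x

theorem sig_congr {H : Subgroup G} {f g : G → ℂ} (h : ∀ x ∈ H, x ≠ 1 → f x = g x) :
    sig H f = sig H g := by
  unfold sig
  refine Finset.sum_congr rfl fun x hx => ?_
  simp only [Finset.mem_filter] at hx
  exact h x hx.2.1 hx.2.2

theorem sig_eq (H : Subgroup G) [Fintype H] (f : G → ℂ) : sig H f = ∑ x : H, f x - f 1 := by
  classical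
  have h1 : ∑ x : H, f x = ∑ x with x ∈ H, f x :=
    (Finset.sum_subtype _ (by simp) f).symm
  have h2 : (Finset.univ.filter fun x => x ∈ H ∧ x ≠ 1) = (Finset.univ.filter fun x => x ∈ H).erase 1 := by
    ext x; simp [and_comm]
  rw [h1, sig]
  convert (Finset.sum_erase_eq_sub (f := f) (s := Finset.univ.filter fun x => x ∈ H) (a := 1) (by simp)) using 2

theorem sig_const {H : Subgroup G} {f : G → ℂ} {c : ℂ} (h : ∀ x ∈ H, x ≠ 1 → f x = c) :
    sig H f = ((Nat.card H : ℂ) - 1) * c := by
  have := Fintype.ofFinite H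
  rw [sig_congr (g := fun _ => c) h, sig_eq, Finset.sum_const, Finset.card_univ, nsmul_eq_mul,
    Nat.card_eq_fintype_card]
  ring

theorem sig_add (H : Subgroup G) (f g : G → ℂ) : sig H (fun x => f x + g x) = sig H f + sig H g :=
  Finset.sum_add_distrib

theorem sig_mul (H : Subgroup G) (c : ℂ) (f : G → ℂ) : sig H (fun x => c * f x) = c * sig H f :=
  (Finset.mul_sum _ _ _).symm

theorem sig_conj (H : Subgroup G) (f : G → ℂ) : sig H (fun x => conj (f x)) = conj (sig H f) := by
  rw [sig, sig, map_sum]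

section TI

variable {H N : Subgroup G} (hN : ∀ n ∈ N, ∀ x ∈ H, n * x * n⁻¹ ∈ H)
  (hTI : ∀ g x : G, x ∈ H → x ≠ 1 → g * x * g⁻¹ ∈ H → g ∈ N)

open Classical in
include hN hTI in
theorem card_conj_into {x : G} (hx : x ∈ conjSet H) :
    (Finset.univ.filter fun k : G => k * x * k⁻¹ ∈ H).card = Nat.card N := by
  obtain ⟨hx1, g, hg⟩ := hx
  rw [Nat.card_eq_fintype_card, ← Finset.card_univ]
  symm
  apply Finset.card_bij (fun (n : N) _ => (n : G) * g)
  · intro n _
    simp only [Finset.mem_filter, Finset.mem_univ, true_and]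
    have := hN n n.2 _ hg
    convert this using 1; group
  · intro n _ n' _ h
    exact Subtype.ext (mul_right_cancel h)
  · intro k hk
    simp only [Finset.mem_filter, Finset.mem_univ, true_and] at hk
    refine ⟨⟨k * g⁻¹, hTI _ _ hg (by simpa using hx1) ?_⟩, Finset.mem_univ _, by simp⟩
    convert hk using 1; group

open Classical in
include hN hTI in
theorem sum_conjSet {f : G → ℂ} (hf : IsClassFunction G f) :
    (∑ g with g ∈ conjSet H, f g) * Nat.card N = Nat.card G * sig H f := by
  have h2 : ∀ k : G, ∑ g with (g ≠ 1 ∧ k * g * k⁻¹ ∈ H), f g = sig H f := by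
    intro k
    refine Finset.sum_bij (fun g _ => k * g * k⁻¹) ?_ ?_ ?_ ?_
    · intro g hg
      simp only [Finset.mem_filter, Finset.mem_univ, true_and] at hg ⊢
      exact ⟨hg.2, by simpa using hg.1⟩
    · intro g _ g' _ h
      exact mul_left_cancel (mul_right_cancel h)
    · intro x hx
      simp only [Finset.mem_filter, Finset.mem_univ, true_and] at hx
      refine ⟨k⁻¹ * x * k, ?_, by group⟩
      simp only [Finset.mem_filter, Finset.mem_univ, true_and]
      refine ⟨fun h => hx.2 ?_, by convert hx.1 using 1; group⟩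
      calc x = k * (k⁻¹ * x * k) * k⁻¹ := by group
        _ = 1 := by rw [h]; group
    · intro g _
      exact (hf g k).symm
  calc _ = ∑ g with g ∈ conjSet H, ∑ k with k * g * k⁻¹ ∈ H, f g := by
        rw [Finset.sum_mul]
        refine Finset.sum_congr rfl fun g hg => ?_
        rw [Finset.sum_const, card_conj_into hN hTI (Finset.mem_filter.mp hg).2, nsmul_eq_mul, mul_comm]
    _ = ∑ k : G, ∑ g with (g ≠ 1 ∧ k * g * k⁻¹ ∈ H), f g := by
        refine Finset.sum_comm' fun g k => ?_
        simp only [Finset.mem_filter, Finset.mem_univ, true_and, and_true]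
        exact ⟨fun h => ⟨h.1.1, h.2⟩, fun h => ⟨⟨h.1, k, h.2⟩, h.2⟩⟩
    _ = _ := by
        rw [Finset.sum_congr rfl fun k _ => h2 k, Finset.sum_const, Finset.card_univ, nsmul_eq_mul,
          Nat.card_eq_fintype_card]

open Classical in
include hTI in
theorem ind_apply (θ : H → ℂ) {x : G} (hx : x ∈ H) (h1 : x ≠ 1) :
    indFun H θ x = (Nat.card H : ℂ)⁻¹ * ∑ n with n ∈ N, extendByZero H θ (n * x * n⁻¹) := by
  rw [indFun_apply']
  congr 1
  symm
  refine Finset.sum_subset (Finset.filter_subset _ _) fun g _ hg => ?_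
  exact extendByZero_of_notMem _ _ fun h => hg (by simpa using hTI g x hx h1 h)

end TI

theorem ind_zero (H : Subgroup G) (θ : H → ℂ) {g : G} (hg : ∀ x : G, x * g * x⁻¹ ∉ H) : indFun H θ g = 0 :=
  indFun_eq_zero H θ fun x => by simpa using hg x⁻¹

/-- a subgroup that is the centraliser of each of its nonidentity elements, of index `e` in its normaliser. -/
structure CC (T : Subgroup G) (e : ℕ) : Prop where
  cent : ∀ x ∈ T, x ≠ 1 → Subgroup.centralizer {x} = T
  card : Nat.card (Subgroup.normalizer (T : Set G)) = e * Nat.card T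

namespace CC

variable {T : Subgroup G} {e : ℕ} (h : CC T e)

include h

theorem mem {x g : G} (hx : x ∈ T) (h1 : x ≠ 1) (hc : g * x = x * g) : g ∈ T := by
  rw [← h.cent x hx h1]; exact Subgroup.mem_centralizer_singleton_iff.mpr hc

theorem comm {x y : G} (hx : x ∈ T) (hy : y ∈ T) : x * y = y * x := by
  by_cases h1 : y = 1
  · simp [h1]
  · rw [← h.cent y hy h1] at hx
    exact Subgroup.mem_centralizer_singleton_iff.mp hx

theorem isMulComm : IsMulCommutative T := ⟨⟨fun x y => Subtype.ext (h.comm x.2 y.2)⟩⟩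

omit h in
theorem hN (T : Subgroup G) : ∀ n ∈ Subgroup.normalizer (T : Set G), ∀ x ∈ T, n * x * n⁻¹ ∈ T :=
  fun _ hn x hx => (Subgroup.mem_normalizer_iff.mp hn x).mp hx

theorem hTI : ∀ g x : G, x ∈ T → x ≠ 1 → g * x * g⁻¹ ∈ T → g ∈ Subgroup.normalizer (T : Set G) := by
  intro g x hx h1 hg
  have h2 : g * x * g⁻¹ ≠ 1 := by simpa using h1
  rw [Subgroup.mem_normalizer_iff]
  intro y
  constructor
  · intro hy
    refine h.mem hg h2 ?_
    calc _ = g * (y * x) * g⁻¹ := by group
      _ = _ := by rw [h.comm hy hx]; group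
  · intro hy
    refine h.mem hx h1 ?_
    calc y * x = g⁻¹ * ((g * y * g⁻¹) * (g * x * g⁻¹)) * g := by group
      _ = _ := by rw [h.comm hy hg]; group

theorem conj_self {n x : G} (hn : n ∈ T) (hx : x ∈ T) : n * x * n⁻¹ = x := by
  rw [h.comm hn hx, mul_inv_cancel_right]

theorem isConj_inv (he : Even e) (ho : Odd (Nat.card T)) {x : G} (hx : x ∈ T) : IsConj x x⁻¹ := by
  have : Fact (Nat.Prime 2) := ⟨Nat.prime_two⟩
  obtain ⟨j, hj⟩ := exists_prime_orderOf_dvd_card' (G := Subgroup.normalizer (T : Set G)) 2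
    (by rw [h.card]; exact he.two_dvd.mul_right _)
  rw [← Subgroup.orderOf_coe] at hj
  have h2 : (j : G) * j = 1 := by rw [← sq, ← hj, pow_orderOf_eq_one]
  have h3 : (j : G) ∉ T := fun hT => by
    have := Subgroup.orderOf_dvd_natCard T hT
    rw [hj] at this
    exact (Nat.not_even_iff_odd.mpr ho) (even_iff_two_dvd.mpr this)
  have h4 := hN T j j.2 x hx
  refine isConj_iff.mpr ⟨j, ?_⟩
  by_contra hc
  apply h3
  refine h.mem (T.mul_mem hx h4) (fun e => hc (eq_inv_of_mul_eq_one_right e)) ?_
  have h5 : (j : G)⁻¹ = j := inv_eq_of_mul_eq_one_right h2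
  calc (j : G) * (x * (j * x * (j : G)⁻¹)) = (j * x * (j : G)⁻¹) * ((j * j) * x * (j : G)⁻¹) := by
        rw [h2, h5]
        calc _ = (j : G) * x * j * x * j := by group
          _ = _ := by group
    _ = (x * (j * x * (j : G)⁻¹)) * j := by
        rw [h2, one_mul, ← mul_assoc, ← h.comm hx h4, h5]

omit h in
theorem card_pos' (T : Subgroup G) : (Nat.card T : ℂ) ≠ 0 := card_ne_zero

open Classical in
omit h in
theorem card_filter (T : Subgroup G) : (Finset.univ.filter fun n => n ∈ T).card = Nat.card T := by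
  rw [Nat.card_eq_fintype_card, Fintype.card_subtype]

theorem ind_one {x : G} (hx : x ∈ T) (h1 : x ≠ 1) : indFun T (fun _ => 1) x = e := by
  classical
  rw [ind_apply h.hTI _ hx h1, Finset.sum_congr rfl (g := fun _ => 1) fun n hn =>
    extendByZero_of_mem _ _ (hN T n (Finset.mem_filter.mp hn).2 x hx), Finset.sum_const, card_filter,
    h.card]
  have := card_pos' T
  simp only [nsmul_eq_mul, mul_one]
  push_cast
  field_simp

theorem norm_ind_le {θ : T → ℂ} (hθ : IsIrrCharacter T θ) {x : G} (hx : x ∈ T) (h1 : x ≠ 1) :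
    ‖indFun T θ x‖ ≤ e := by
  classical
  have := h.isMulComm
  have h2 : ∀ y, ‖extendByZero T θ y‖ ≤ 1 := fun y => by
    by_cases hy : y ∈ T
    · rw [extendByZero_of_mem _ _ hy]
      simpa using isChar_norm_le (isIrr_isChar hθ) ⟨y, hy⟩ (n := 1)
        (by simpa using isIrr_degree_one_of_comm hθ)
    · rw [extendByZero_of_notMem _ _ hy]; simp
  rw [ind_apply h.hTI _ hx h1, norm_mul, norm_inv, Complex.norm_natCast]
  have h3 : (0 : ℝ) < Nat.card T := by exact_mod_cast Nat.card_pos
  rw [inv_mul_le_iff₀ h3]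
  refine (norm_sum_le _ _).trans ((Finset.sum_le_sum fun n _ => h2 _).trans ?_)
  rw [Finset.sum_const, card_filter, h.card]
  simp [mul_comm]

open Classical in
theorem orth [Fintype T] {θ : T → ℂ} (hθ : IsIrrCharacter T θ) (h1 : θ ≠ fun _ => 1) (x : G) :
    ∑ t : T, θ t * conj (extendByZero T θ (x⁻¹ * t * x)) =
      (if x ∈ T then (Nat.card T : ℂ) else 0) + (if x ∈ Subgroup.normalizer (T : Set G) then 0 else 1) := by
  have := h.isMulComm
  obtain ⟨lam, rfl⟩ := isIrr_linear_of_comm hθ
  by_cases hx : x ∈ T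
  · rw [if_pos hx, if_pos (Subgroup.le_normalizer hx), add_zero,
      Finset.sum_congr rfl (g := fun _ => 1) fun t _ => ?_]
    · simp
    · have := h.conj_self (T.inv_mem hx) t.2
      rw [inv_inv] at this
      rw [this, extendByZero_of_mem _ _ t.2, linear_mul_conj]
  · rw [if_neg hx, zero_add]
    split_ifs with hn
    · have hm : ∀ t : T, x⁻¹ * t * x ∈ T := fun t => by
        simpa using hN T x⁻¹ (Subgroup.inv_mem _ hn) t t.2
      let φ : T → T := fun t => t * (⟨_, hm t⟩ : T)⁻¹
      have hφ : Function.Bijective φ := by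
        refine Finite.injective_iff_bijective.mp fun t s hts => ?_
        have e1 : (t : G) * (x⁻¹ * t * x)⁻¹ = s * (x⁻¹ * s * x)⁻¹ := congrArg Subtype.val hts
        by_contra hne
        refine hx (h.mem (x := (s : G)⁻¹ * t) (T.mul_mem (T.inv_mem s.2) t.2)
          (fun e2 => hne (Subtype.ext (inv_mul_eq_one.mp e2).symm)) ?_)
        calc x * ((s : G)⁻¹ * t) = x * (s : G)⁻¹ * (t * (x⁻¹ * t * x)⁻¹) * (x⁻¹ * t * x) := by group
          _ = _ := by rw [e1]; group
      rw [← isIrr_sum_eq_zero hθ h1, ← hφ.sum_comp (fun g => (lam g : ℂ))]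
      refine Finset.sum_congr rfl fun t _ => ?_
      rw [extendByZero_of_mem _ _ (hm t), linear_conj]
      simp [φ]
    · rw [Finset.sum_eq_single 1]
      · have e1 : (⟨1, T.one_mem⟩ : T) = 1 := rfl
        simp [extendByZero_of_mem _ _ T.one_mem, e1]
      · intro t _ ht
        rw [extendByZero_of_notMem, map_zero, mul_zero]
        intro hm
        refine hn ?_
        have := h.hTI x⁻¹ t t.2 (by simpa using ht) (by simpa using hm)
        simpa using this
      · simp

theorem sig_norm {θ : T → ℂ} (hθ : IsIrrCharacter T θ) (h1 : θ ≠ fun _ => 1) :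
    sig T (fun x => indFun T θ x * conj (indFun T θ x)) = e * (Nat.card T - e) := by
  classical
  have := h.isMulComm
  have := Fintype.ofFinite T
  have h2 := IndTI.inner_indFun_indFun T T θ θ
  simp only [h.orth hθ h1, Finset.sum_add_distrib, Finset.sum_ite, Finset.sum_const_zero, add_zero,
    zero_add, Finset.sum_const, card_filter, nsmul_eq_mul, mul_one] at h2
  have h3 := Finset.card_filter_add_card_filter_not (s := Finset.univ)
    (fun x : G => x ∈ Subgroup.normalizer (T : Set G))
  rw [card_filter, Finset.card_univ, ← Nat.card_eq_fintype_card] at h3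
  have h3' := congrArg (Nat.cast : ℕ → ℂ) h3
  have h4 := card_mul_classInner (indFun T θ) (indFun T θ)
  have hc : IsClassFunction G (fun x => indFun T θ x * conj (indFun T θ x)) := fun g k => by
    simp only [indFun_classFun T θ g k]
  have h5 := sum_conjSet (hN T) h.hTI hc
  have h6 : ∑ g, indFun T θ g * conj (indFun T θ g) = (T.index : ℂ) ^ 2 +
      ∑ g with g ∈ conjSet T, indFun T θ g * conj (indFun T θ g) := by
    rw [← Finset.add_sum_erase _ _ (Finset.mem_univ 1), indFun_one, isIrr_degree_one_of_comm hθ]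
    congr 1
    · simp [sq]
    · symm
      refine Finset.sum_subset (fun g hg => ?_) fun g hg hg' => ?_
      · simpa using (Finset.mem_filter.mp hg).2.1
      · rw [ind_zero T θ fun x hx => hg' ?_, zero_mul]
        exact Finset.mem_filter.mpr ⟨Finset.mem_univ _, by simpa using hg, x, hx⟩
  have h7 := congrArg (Nat.cast : ℕ → ℂ) T.card_mul_index
  have h8 := congrArg (Nat.cast : ℕ → ℂ) h.card
  push_cast at h3' h7 h8
  have hT := card_pos' T
  have hG : (Nat.card G : ℂ) ≠ 0 := card_ne_zero
  rw [h2, h6] at h4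
  set S := sig T (fun x => indFun T θ x * conj (indFun T θ x))
  set A := ∑ g with g ∈ conjSet T, indFun T θ g * conj (indFun T θ g)
  set c : ℂ := ((Finset.univ.filter fun x : G => x ∉ Subgroup.normalizer (T : Set G)).card : ℂ)
  set t : ℂ := (Nat.card T : ℂ)
  set i : ℂ := (T.index : ℂ)
  rw [h8] at h5 h3'
  rw [← h7] at h4 h5 h3' hG
  have hi : i ≠ 0 := fun e => hG (by rw [e, mul_zero])
  have e1 : c = t * i - e * t := by linear_combination h3'
  rw [e1] at h4
  field_simp at h4
  apply mul_left_cancel₀ (mul_ne_zero hT hi)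
  linear_combination -h5 - e * t * h4

omit h in
theorem sum_ind (T : Subgroup G) [IsMulCommutative T] (g : G) :
    ∑ θ : IrrCharacter T, indFun T θ.1 g = regChar G g := by
  have h1 : ∑ θ : IrrCharacter T, θ.1 = regChar T := by
    rw [regChar_eq_sum]
    exact Finset.sum_congr rfl fun θ _ => by rw [isIrr_degree_one_of_comm θ.2, one_smul]
  rw [← Finset.sum_apply, ← indFun_sum, h1]
  by_cases hg : g = 1
  · subst hg
    rw [indFun_one, regChar_one, regChar_one, ← T.card_mul_index]
    push_cast; ring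
  · rw [regChar_of_ne hg]
    refine indFun_eq_zero_of_forall _ _ fun x hx => regChar_of_ne fun e => hg ?_
    have e1 : x⁻¹ * g * x = 1 := congrArg Subtype.val e
    calc g = x * (x⁻¹ * g * x) * x⁻¹ := by group
      _ = 1 := by rw [e1]; group

open Classical in
theorem card_class {x : G} (hx : x ∈ T) (h1 : x ≠ 1) :
    (Finset.univ.filter fun y => ∃ n ∈ Subgroup.normalizer (T : Set G), n * y * n⁻¹ = x).card = e := by
  have h2 := Finset.card_eq_sum_card_fiberwise
    (s := Finset.univ.filter fun n => n ∈ Subgroup.normalizer (T : Set G))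
    (t := Finset.univ.filter fun y => ∃ n ∈ Subgroup.normalizer (T : Set G), n * y * n⁻¹ = x)
    (f := fun n => n⁻¹ * x * n) (fun n hn => by
      simp only [Finset.coe_filter, Finset.mem_univ, true_and, Set.mem_ofPred_eq] at hn ⊢
      exact ⟨n, hn, by group⟩)
  rw [card_filter, h.card, Finset.sum_congr rfl (g := fun _ => Nat.card T), Finset.sum_const,
    smul_eq_mul] at h2
  · exact (Nat.eq_of_mul_eq_mul_right Nat.card_pos h2).symm
  · intro y hy
    obtain ⟨n, hn, rfl⟩ := (Finset.mem_filter.mp hy).2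
    rw [← card_filter]
    symm
    refine Finset.card_bij (fun t _ => t * n) ?_ ?_ ?_
    · intro t ht
      simp only [Finset.mem_filter, Finset.mem_univ, true_and] at ht ⊢
      refine ⟨Subgroup.mul_mem _ (Subgroup.le_normalizer ht) hn, ?_⟩
      have := h.conj_self (T.inv_mem ht) hx
      calc _ = n⁻¹ * (t⁻¹ * (n * y * n⁻¹) * t⁻¹⁻¹) * n := by group
        _ = y := by rw [this]; group
    · intro t _ s _ e1
      exact mul_right_cancel e1
    · intro k hk
      simp only [Finset.mem_filter, Finset.mem_univ, true_and] at hk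
      refine ⟨k * n⁻¹, ?_, by group⟩
      simp only [Finset.mem_filter, Finset.mem_univ, true_and]
      refine h.mem hx h1 ?_
      calc k * n⁻¹ * (n * y * n⁻¹) = k * y * n⁻¹ := by group
        _ = _ := by conv_lhs => rw [← hk.2]
                    group

theorem sig_integral {f : G → ℂ} (hf : IsClassFunction G f) (hi : ∀ g, IsIntegral ℤ (f g)) :
    ∃ a : ℂ, IsIntegral ℤ a ∧ sig T f = e * a := by
  classical
  let r : Setoid G := ⟨fun y x => ∃ n ∈ Subgroup.normalizer (T : Set G), n * y * n⁻¹ = x,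
    ⟨fun x => ⟨1, Subgroup.one_mem _, by group⟩,
     fun ⟨n, hn, e1⟩ => ⟨n⁻¹, Subgroup.inv_mem _ hn, by rw [← e1]; group⟩,
     fun ⟨n, hn, e1⟩ ⟨k, hk, e2⟩ => ⟨k * n, Subgroup.mul_mem _ hk hn, by rw [← e2, ← e1]; group⟩⟩⟩
  let S : Finset G := Finset.univ.filter fun x => x ∈ T ∧ x ≠ 1
  refine ⟨∑ c ∈ S.image (Quotient.mk r), f c.out, IsIntegral.sum _ fun c _ => hi _, ?_⟩
  have h1 : sig T f = ∑ x ∈ S, f x := by unfold sig; congr
  rw [h1, ← Finset.sum_fiberwise_of_maps_to (g := Quotient.mk r) (t := S.image (Quotient.mk r))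
    (fun x hx => Finset.mem_image_of_mem _ hx), Finset.mul_sum]
  refine Finset.sum_congr rfl fun c hc => ?_
  obtain ⟨x, hx, rfl⟩ := Finset.mem_image.mp hc
  have hx' := (Finset.mem_filter.mp hx).2
  rw [Finset.sum_congr rfl (g := fun _ => f (Quotient.mk r x).out), Finset.sum_const, nsmul_eq_mul,
    ← h.card_class hx'.1 hx'.2]
  · congr 3
    ext y
    simp only [S, Finset.mem_filter, Finset.mem_univ, true_and, Quotient.eq]
    refine ⟨fun e1 => e1.2, fun e1 => ⟨?_, e1⟩⟩
    obtain ⟨n, hn, e2⟩ := e1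
    have e3 : y = n⁻¹ * x * n⁻¹⁻¹ := by rw [← e2]; group
    refine ⟨e3 ▸ hN T _ (Subgroup.inv_mem _ hn) x hx'.1, fun e4 => hx'.2 ?_⟩
    rw [← e2, e4]; group
  · intro y hy
    obtain ⟨n, -, e1⟩ : r y (Quotient.mk r x).out :=
      Quotient.exact ((Finset.mem_filter.mp hy).2.trans (Quotient.out_eq _).symm)
    rw [← e1, hf]

theorem genChar_R (hc : Nat.Coprime e (Nat.card T)) (he : e ≠ 0) :
    IsGeneralizedCharacter G (fun g => (e : ℂ)⁻¹ * (regChar G g - indFun T (fun _ => 1) g)) := by
  have := Fintype.ofFinite T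
  have hcl := classFun_smul (e : ℂ)⁻¹
    (classFun_sub (isChar_classFun (isChar_regChar (G := G))) (indFun_classFun T (fun _ => 1)))
  refine isGenChar_of_inner_int hcl fun χ hχ => ?_
  obtain ⟨d, -, hd⟩ := isIrr_degree hχ
  obtain ⟨k, hk⟩ := classInner_isChar_nat (isChar_one (G := T)) (isChar_res T (isIrr_isChar hχ))
  obtain ⟨a, ha, h1⟩ := h.sig_integral (f := fun g => d - conj (χ g))
    (fun g x => by simp only [isIrr_classFun hχ g x])
    (fun g => (isIntegral_natCast' d).sub (isIntegral_conj (isIrr_isIntegral hχ g)))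
  have h2 := card_mul_classInner (fun _ : T => (1 : ℂ)) (fun x : T => χ x)
  rw [sig_eq, Finset.sum_sub_distrib, hd, Finset.sum_const, Finset.card_univ, ← Nat.card_eq_fintype_card,
    nsmul_eq_mul] at h1
  simp only [one_mul, hk] at h2
  rw [← h2] at h1
  have he' : (e : ℂ) ≠ 0 := by exact_mod_cast he
  have h3 : (e : ℤ) ∣ Nat.card T * ((d : ℤ) - k) := by
    refine int_dvd_of_isIntegral_div (by exact_mod_cast he) ?_
    convert ha using 1
    push_cast
    field_simp
    simp only [map_natCast, sub_self, sub_zero] at h1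
    linear_combination h1
  obtain ⟨n, hn⟩ := Int.dvd_of_dvd_mul_right_of_gcd_one h3 (by simpa using hc)
  refine ⟨n, ?_⟩
  change classInner ((e : ℂ)⁻¹ • (regChar G - indFun T (fun _ => 1))) χ = _
  rw [classInner_smul_left, classInner_sub_left, classInner_regChar_left,
    inner_indFun_left T _ (isIrr_classFun hχ), hk, hd]
  have h4 := congrArg (Int.cast : ℤ → ℂ) hn
  push_cast at h4
  rw [map_natCast, h4]
  field_simp

end CC

end Cfsg.Agent.SzC
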