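import Mathlib
import Cfsg.Agent.SzC.TI
import Cfsg.Agent.RankOne.SzCount
import Cfsg.Agent.RankOne.SzSub

set_option autoImplicit false
set_option linter.unusedSectionVars false

/-! Characters of a Suzuki group induced from a Sylow 2-subgroup. -/

open scoped ComplexConjugate commutatorElement

namespace Cfsg.Agent.SzC

open Cfsg Cfsg.Agent.Char Cfsg.Agent.Char.Ind Cfsg.Agent.RankOne Cfsg.Agent.RankOne.Sz

theorem exists_zeta {F : Type*} [Field F] [Fintype F] {m : ℕ} (hF : Fintype.card F = 2 ^ (2 * m + 1)) :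
    ∃ ζ : F → ℂ, (∀ a b, ζ (a + b) = ζ a * ζ b) ∧ ζ 0 = 1 ∧ ζ 1 = -1 ∧ ∀ b, ζ (b ^ 2) = ζ b := by
  classical
  have := charP_of_card hF
  have : Fact (Nat.Prime 2) := ⟨Nat.prime_two⟩
  let T : F → F := fun b => ∑ i ∈ Finset.range (2 * m + 1), b ^ 2 ^ i
  have h1 : ∀ a b, T (a + b) = T a + T b := fun a b => by
    simp only [T, add_pow_char_pow, Finset.sum_add_distrib]
  have h2 : ∀ b, T (b ^ 2) = T b := fun b => by
    have e1 := Finset.sum_range_succ (fun i => b ^ 2 ^ i) (2 * m + 1)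
    rw [Finset.sum_range_succ', pow_q hF, pow_zero, pow_one] at e1
    simp only [T, ← pow_mul, ← pow_succ']
    exact add_right_cancel e1
  have h3 : ∀ b, T b = 0 ∨ T b = 1 := fun b => by
    have e1 : T b ^ 2 = T b := by
      conv_rhs => rw [← h2]
      simp only [T, sum_pow_char, ← pow_mul, mul_comm]
    have e2 : T b * (T b - 1) = 0 := by linear_combination e1
    exact (mul_eq_zero.mp e2).imp id sub_eq_zero.mp
  have h4 : T 1 = 1 := by
    simp only [T, one_pow, Finset.sum_const, Finset.card_range, nsmul_eq_mul, mul_one]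
    push_cast
    rw [CharTwo.two_eq_zero]; simp
  have h5 : T 0 = 0 := by simp [T]
  refine ⟨fun b => if T b = 0 then 1 else -1, fun a b => ?_, by simp [h5], by simp [h4], fun b => by
    simp only [h2]⟩
  simp only [h1]
  rcases h3 a with e1 | e1 <;> rcases h3 b with e2 | e2 <;> simp [e1, e2, CharTwo.add_self_eq_zero]

theorem conj_of_sq {w s : ℂ} (hs : conj s = s) (h : w ^ 2 = -s ^ 2) : conj w = -w := by
  have h1 : (w - Complex.I * s) * (w + Complex.I * s) = 0 := by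
    linear_combination h - s ^ 2 * Complex.I_sq
  rcases mul_eq_zero.mp h1 with h2 | h2
  · rw [sub_eq_zero.mp h2]; simp [hs]
  · rw [eq_neg_of_add_eq_zero_left h2]; simp [hs]

variable {G Ω F : Type*} [Group G] [MulAction G Ω] [Field F] [Fintype F] {m : ℕ} (Z : Model G Ω F m)

/-- elements of `Q` as elements of the subgroup. -/
abbrev sq (x y : F) : Z.Q := ⟨Z.S x y, Z.S_mem x y⟩

theorem symm_sq (x y : F) : Z.equivQ.symm (sq Z x y) = (x, y) := Z.equivQ.symm_apply_apply (x, y)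

theorem exists_sq (g : Z.Q) : ∃ x y, g = sq Z x y := by
  obtain ⟨x, y, h⟩ := (Z.mem_Q g).mp g.2
  exact ⟨x, y, Subtype.ext h⟩

theorem conj_S (u v x y : F) :
    Z.S u v * Z.S x y * (Z.S u v)⁻¹ = Z.S x (y + (Z.θ u * x + Z.θ x * u)) := by
  have := Z.charP
  rw [Z.S_inv, Z.S_mul, Z.S_mul, map_add]
  congr 1 <;> grind

section zeta

variable {ζ : F → ℂ} (h1 : ∀ a b, ζ (a + b) = ζ a * ζ b) (h2 : ζ 0 = 1) (h3 : ζ 1 = -1)
  (h4 : ∀ b, ζ (b ^ 2) = ζ b)

include h1 h3 in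
theorem zeta_sum : ∑ b, ζ b = 0 := by
  have e1 := Equiv.sum_comp (Equiv.addRight (1 : F)) ζ
  simp only [Equiv.coe_addRight, h1, h3, ← Finset.sum_mul] at e1
  linear_combination (-1 / 2 : ℂ) * e1

include h1 h2 h3 in
theorem zeta_sum_units [DecidableEq F] (φ : F → F) (hφ : Function.Injective φ) (h0 : φ 0 = 0) :
    ∑ κ : Fˣ, ζ (φ κ) = -1 := by
  have e1 := (Finite.injective_iff_bijective.mp hφ).sum_comp ζ
  rw [zeta_sum h1 h3, ← Finset.add_sum_erase _ _ (Finset.mem_univ 0), h0, h2] at e1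
  have e2 : ∑ κ : Fˣ, ζ (φ κ) = ∑ x ∈ Finset.univ.erase 0, ζ (φ x) := by
    refine Finset.sum_bij (fun κ _ => (κ : F)) (by simp) (fun _ _ _ _ h => Units.ext h) ?_ (by simp)
    intro b hb
    exact ⟨Units.mk0 b (by simpa using hb), Finset.mem_univ _, rfl⟩
  rw [e2]; linear_combination e1

include Z h1 h2 in
theorem zeta_sq (b : F) : ζ b * ζ b = 1 := by
  have := Z.charP
  rw [← h1, CharTwo.add_self_eq_zero, h2]

include h4 in
theorem zeta_θ (b : F) : ζ (Z.θ b) = ζ b := by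
  rw [Z.θ_apply]
  induction (m + 1) with
  | zero => simp
  | succ n ih => rw [pow_succ, pow_mul, h4, ih]

include h1 h4 in
theorem zeta_comm (u x : F) : ζ (Z.θ u * x + Z.θ x * u) = ζ (u * (Z.ψ x * (1 + Z.ψ x))) := by
  have e1 : Z.θ u * x = Z.θ (u * Z.ψ x) := by rw [map_mul, Z.θψ]
  rw [h1, e1, zeta_θ Z h4, ← h1, ← Z.ψ_sq]
  congr 1; ring

include h1 h2 h3 h4 in
theorem exists_eta_aux [Finite G] : ∃ (η : Z.Q → ℂ), IsIrrCharacter Z.Q η ∧
    ∀ b g, η (sq Z 0 b * g) = ζ b * η g := by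
  classical
  have := Fintype.ofFinite Z.Q
  let f : Z.Q → ℂ := fun g => if (Z.equivQ.symm g).1 = 0 then ζ (Z.equivQ.symm g).2 else 0
  have hf : ∀ x y, f (sq Z x y) = if x = 0 then ζ y else 0 := fun x y => by simp only [f, symm_sq]
  have hc : IsClassFunction Z.Q f := by
    intro g k
    obtain ⟨x, y, rfl⟩ := exists_sq Z g
    obtain ⟨u, v, rfl⟩ := exists_sq Z k
    have e1 : sq Z u v * sq Z x y * (sq Z u v)⁻¹ = sq Z x (y + (Z.θ u * x + Z.θ x * u)) :=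
      Subtype.ext (conj_S Z u v x y)
    rw [e1, hf, hf]
    split_ifs with hx
    · simp [hx]
    · rfl
  obtain ⟨η, hη, hin⟩ := exists_irr_inner_ne_zero hc (fun e => by
    have := congrFun e (sq Z 0 0)
    simp [hf, h2] at this)
  obtain ⟨lam, hlam⟩ := isIrr_exists_central_linear hη
  let l : F → ℂ := fun b => lam ⟨sq Z 0 b, (Z.mem_center_Q_iff _).mpr ⟨b, rfl⟩⟩
  have hl : ∀ b g, η (sq Z 0 b * g) = l b * η g := fun b g => hlam ⟨sq Z 0 b, _⟩ g
  refine ⟨η, hη, fun c g => ?_⟩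
  rw [hl]
  congr 1
  rw [classInner_def, ← Z.equivQ.sum_comp, Fintype.sum_prod_type, Finset.sum_eq_single 0] at hin
  · have e1 : ∑ y, ζ y * conj (η (sq Z 0 y)) ≠ 0 := fun e => hin (by
      rw [Finset.sum_congr rfl (g := fun y => ζ y * conj (η (sq Z 0 y))) fun y _ => ?_, e, mul_zero]
      change f (sq Z 0 y) * conj (η (sq Z 0 y)) = _
      rw [hf, if_pos rfl])
    have e2 := Equiv.sum_comp (Equiv.addLeft c) fun y => ζ y * conj (η (sq Z 0 y))
    have e3 : ∀ y, sq Z 0 (c + y) = sq Z 0 c * sq Z 0 y := fun y => Subtype.ext (Z.S_zero_mul c y).symm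
    simp only [Equiv.coe_addLeft, e3, hl, h1, map_mul] at e2
    have e4 : ζ c * conj (l c) = 1 := by
      apply mul_right_cancel₀ e1
      rw [one_mul]
      conv_rhs => rw [← e2]
      rw [Finset.mul_sum]
      exact Finset.sum_congr rfl fun y _ => by ring
    have e5 := zeta_sq Z h1 h2 c
    have e6 : conj (l c) = ζ c := by linear_combination ζ c * e4 - conj (l c) * e5
    rw [← Complex.conj_conj (l c), e6]
    rcases mul_self_eq_one_iff.mp e5 with e | e <;> simp [e]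
  · intro x _ hx
    refine Finset.sum_eq_zero fun y _ => ?_
    change f (sq Z x y) * _ = _
    rw [hf, if_neg hx, zero_mul]
  · simp

include h1 h2 h3 h4 in
theorem exists_eta [Finite G] : ∃ (η : Z.Q → ℂ), IsIrrCharacter Z.Q η ∧ η 1 = 2 ^ m ∧
    (∀ b, η (sq Z 0 b) = ζ b * 2 ^ m) ∧ (∀ x y, x ≠ 0 → x ≠ 1 → η (sq Z x y) = 0) ∧
    ∀ y, η (sq Z 1 y) ^ 2 = -(2 ^ m) ^ 2 := by
  classical
  have := Fintype.ofFinite Z.Q
  have := Z.charP
  obtain ⟨η, hη, hl⟩ := exists_eta_aux Z h1 h2 h3 h4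
  obtain ⟨d, -, hd⟩ := isIrr_degree hη
  have a1 : ∀ b, η (sq Z 0 b) = ζ b * d := fun b => by rw [← hd, ← hl, mul_one]
  have a0 : ∀ u v x y, sq Z u v * sq Z x y * (sq Z u v)⁻¹ = sq Z 0 (Z.θ u * x + Z.θ x * u) * sq Z x y := by
    intro u v x y
    apply Subtype.ext
    change Z.S u v * Z.S x y * (Z.S u v)⁻¹ = Z.S 0 _ * Z.S x y
    rw [conj_S, Z.S_mul]
    congr 1 <;> simp [add_comm]
  have a2 : ∀ x y, x ≠ 0 → x ≠ 1 → η (sq Z x y) = 0 := by
    intro x y hx0 hx1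
    have e1 : Z.ψ x * (1 + Z.ψ x) ≠ 0 := by
      refine mul_ne_zero (by simpa using hx0) fun e => hx1 (Z.ψ.injective ?_)
      rw [map_one]; grind
    have e2 := isIrr_classFun hη (sq Z x y) (sq Z (Z.ψ x * (1 + Z.ψ x))⁻¹ 0)
    rw [a0, hl, zeta_comm Z h1 h4, inv_mul_cancel₀ e1, h3] at e2
    linear_combination (-1 / 2 : ℂ) * e2
  have a3 : ∀ y, η (sq Z 1 y) ^ 2 = -(d : ℂ) ^ 2 := by
    intro y
    have e1 : sq Z 1 y ∈ charCenter η := by
      refine mem_charCenter_of_commutator hη fun g => ?_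
      obtain ⟨u, v, rfl⟩ := exists_sq Z g
      rw [commutatorElement_def, a0, mul_inv_cancel_right, mem_charKer_iff (isIrr_isChar hη), a1,
        zeta_comm Z h1 h4, hd]
      simp [CharTwo.add_self_eq_zero, h2]
    have e2 := mul_of_mem_charCenter (isIrr_isChar hη) e1 (sq Z 1 y)
    have e3 : sq Z 1 y * sq Z 1 y = sq Z 0 1 := Subtype.ext (by simpa using Z.S_sq 1 y)
    rw [e3, a1, h3, hd] at e2
    linear_combination -e2
  have a4 : d = 2 ^ m := by
    have e1 := card_mul_classInner η η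
    rw [classInner_isIrr_self hη, mul_one, ← Z.equivQ.sum_comp, Fintype.sum_prod_type,
      Finset.sum_eq_add_of_mem 0 1 (Finset.mem_univ _) (Finset.mem_univ _) zero_ne_one,
      Finset.sum_congr rfl (g := fun _ => (d : ℂ) ^ 2), Finset.sum_congr rfl (g := fun _ => (d : ℂ) ^ 2)
        (f := fun y => η (Z.equivQ (1, y)) * _), Finset.sum_const, Finset.card_univ, Z.card_Q,
      nsmul_eq_mul, Z.card_F] at e1
    · have e2 : (2 ^ (2 * m + 1)) ^ 2 = 2 ^ (2 * m + 1) * d ^ 2 + 2 ^ (2 * m + 1) * d ^ 2 := by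
        exact_mod_cast e1
      have e3 : d ^ 2 = (2 ^ m) ^ 2 := by
        apply Nat.eq_of_mul_eq_mul_left (show 0 < 2 * 2 ^ (2 * m + 1) by positivity)
        calc _ = 2 ^ (2 * m + 1) * d ^ 2 + 2 ^ (2 * m + 1) * d ^ 2 := by ring
          _ = _ := by rw [← e2]; ring
      exact Nat.pow_left_injective two_ne_zero e3
    · intro y _
      change η (sq Z 1 y) * conj (η (sq Z 1 y)) = _
      rw [conj_of_sq (by simp) (a3 y)]
      linear_combination -(a3 y)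
    · intro y _
      change η (sq Z 0 y) * conj (η (sq Z 0 y)) = _
      rw [a1]
      rcases mul_self_eq_one_iff.mp (zeta_sq Z h1 h2 y) with e | e <;> simp [e, pow_two]
    · intro x _ hx
      refine Finset.sum_eq_zero fun y _ => ?_
      change η (sq Z x y) * _ = _
      rw [a2 x y hx.1 hx.2, zero_mul]
  subst a4
  push_cast at hd a1 a3
  exact ⟨η, hη, hd, a1, a2, a3⟩

end zeta

variable [Fintype G]

theorem ind_Q [DecidableEq F] {θ : Z.Q → ℂ} (hθ : IsClassFunction Z.Q θ) {x y : F} (h : ¬ (x = 0 ∧ y = 0)) :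
    indFun Z.Q θ (Z.S x y) = ∑ κ : Fˣ, θ (sq Z (κ * x) (κ * Z.θ κ * y)) := by
  classical
  rw [ind_apply (N := Z.B) (fun g x hx h1 h => Z.mem_B_of_conj_mem_Q hx h1 h) θ (Z.S_mem x y)
    (by rwa [Ne, Z.S_eq_one_iff])]
  have e1 : ∀ i : DecidablePred fun n => n ∈ Z.B,
      ∑ n ∈ @Finset.filter _ _ i Finset.univ, extendByZero Z.Q θ (n * Z.S x y * n⁻¹) =
      ∑ p : (F × F) × Fˣ, θ (sq Z (p.2 * x) (p.2 * Z.θ p.2 * y)) := by
    intro i
    symm
    refine Finset.sum_bij (fun p _ => Z.S p.1.1 p.1.2 * Z.M p.2) ?_ ?_ ?_ ?_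
    · intro p _
      simpa using Z.S_mul_M_a _ _ _
    · intro p _ r _ h
      obtain ⟨h1, h2, h3⟩ := Z.S_mul_M_inj h
      exact Prod.ext (Prod.ext h1 h2) h3
    · intro g hg
      obtain ⟨u, v, κ, rfl⟩ := Z.exists_S_mul_M (g := g) (by simpa using hg)
      exact ⟨((u, v), κ), Finset.mem_univ _, rfl⟩
    · rintro ⟨⟨u, v⟩, κ⟩ _
      have e2 : Z.S u v * Z.M κ * Z.S x y * (Z.S u v * Z.M κ)⁻¹ =
          ((sq Z u v * sq Z (κ * x) (κ * Z.θ κ * y) * (sq Z u v)⁻¹ : Z.Q) : G) := by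
        change _ = Z.S u v * Z.S _ _ * (Z.S u v)⁻¹
        rw [← Z.M_conj_S]; group
      simp only
      rw [e2, extendByZero_of_mem _ _ (Subtype.prop _), hθ]
  rw [e1, Fintype.sum_prod_type]
  dsimp only
  rw [Finset.sum_const, Finset.card_univ, Fintype.card_prod, Z.card_Q, nsmul_eq_mul]
  have : (Fintype.card F : ℂ) ≠ 0 := by exact_mod_cast Fintype.card_ne_zero
  generalize ∑ κ : Fˣ, θ (sq Z (κ * x) (κ * Z.θ κ * y)) = A
  push_cast
  field_simp

omit [Fintype G] in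
include Z in
theorem cast_q : (Fintype.card F : ℂ) = 2 * (2 ^ m) ^ 2 := by
  rw [Z.card_F]; push_cast; ring

omit [Fintype G] in
include Z in
theorem cast_q_sub : ((Fintype.card F - 1 : ℕ) : ℂ) = 2 * (2 ^ m) ^ 2 - 1 := by
  rw [Nat.cast_sub Fintype.card_pos, cast_q Z, Nat.cast_one]

theorem exists_Phi_Psi : ∃ Φ Ψ : G → ℂ, IsCharacter G Φ ∧ IsCharacter G Ψ ∧
    Φ 1 = ((2 * (2 ^ m) ^ 2) ^ 2 + 1) * (2 * (2 ^ m) ^ 2 - 1) * 2 ^ m ∧
    Ψ 1 = ((2 * (2 ^ m) ^ 2) ^ 2 + 1) * (2 * (2 ^ m) ^ 2 - 1) ∧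
    (∀ b, b ≠ 0 → Φ (Z.S 0 b) = -2 ^ m) ∧ (∀ b, b ≠ 0 → Ψ (Z.S 0 b) = 2 * (2 ^ m) ^ 2 - 1) ∧
    (∀ x y, x ≠ 0 → Φ (Z.S x y) ^ 2 = -(2 ^ m) ^ 2) ∧ (∀ x y, x ≠ 0 → Ψ (Z.S x y) = -1) ∧
    (∀ g, g ≠ 1 → g ∉ conjSet Z.Q → Φ g = 0) ∧ ∀ g, g ≠ 1 → g ∉ conjSet Z.Q → Ψ g = 0 := by
  classical
  obtain ⟨ζ, h1, h2, h3, h4⟩ := exists_zeta Z.card_F
  obtain ⟨η, hη, a1, a2, a3, a4⟩ := exists_eta Z h1 h2 h3 h4
  let ν : Z.Q →* ℂ :=
    { toFun := fun g => ζ (Z.equivQ.symm g).1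
      map_one' := by
        have : (1 : Z.Q) = sq Z 0 0 := Subtype.ext Z.S_zero.symm
        rw [this, symm_sq, h2]
      map_mul' := by
        intro g k
        obtain ⟨x, y, rfl⟩ := exists_sq Z g
        obtain ⟨u, v, rfl⟩ := exists_sq Z k
        have : sq Z x y * sq Z u v = sq Z (x + u) (y + v + Z.θ x * u) := Subtype.ext (Z.S_mul _ _ _ _)
        rw [this, symm_sq, symm_sq, symm_sq, h1] }
  have hν : IsCharacter Z.Q ν := isChar_linear ν.toHomUnits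
  have hν' : ∀ x y, ν (sq Z x y) = ζ x := fun x y => by
    change ζ (Z.equivQ.symm (sq Z x y)).1 = _
    rw [symm_sq]
  have hi : (Z.Q.index : ℂ) = ((2 * (2 ^ m) ^ 2) ^ 2 + 1) * (2 * (2 ^ m) ^ 2 - 1) := by
    rw [Z.index_Q, Nat.cast_mul, cast_q_sub Z]; push_cast; rw [cast_q Z]
  refine ⟨indFun Z.Q η, indFun Z.Q ν, IndRep.isChar_indFun _ (isIrr_isChar hη), IndRep.isChar_indFun _ hν,
    by rw [indFun_one, hi, a1], by rw [indFun_one, hi, map_one, mul_one], fun b hb => ?_, fun b hb => ?_,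
    fun x y hx => ?_, fun x y hx => ?_, fun g h1 hg => ind_zero _ _ fun x hx => hg ⟨h1, x, hx⟩,
    fun g h1 hg => ind_zero _ _ fun x hx => hg ⟨h1, x, hx⟩⟩
  · rw [ind_Q Z (isIrr_classFun hη) (by simp [hb])]
    simp only [mul_zero, a2, ← Finset.sum_mul]
    rw [zeta_sum_units h1 h2 h3 (fun κ => κ * Z.θ κ * b)
      (fun _ _ e => Z.mul_θ_inj (mul_right_cancel₀ hb e)) (by simp)]
    ring
  · rw [ind_Q Z (isChar_classFun hν) (by simp [hb])]
    simp only [mul_zero, hν', h2, Finset.sum_const, Finset.card_univ, Fintype.card_units, nsmul_eq_mul,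
      mul_one, cast_q_sub Z]
  · rw [ind_Q Z (isIrr_classFun hη) (by simp [hx]), Finset.sum_eq_single (Units.mk0 x hx)⁻¹]
    · have : (((Units.mk0 x hx)⁻¹ : Fˣ) : F) * x = 1 := by simp [hx]
      simp only [this, a4]
    · intro κ _ hκ
      refine a3 _ _ (by simp [hx]) fun e => hκ ?_
      exact eq_inv_of_mul_eq_one_left (Units.ext e)
    · simp
  · rw [ind_Q Z (isChar_classFun hν) (by simp [hx])]
    simp only [hν']
    exact zeta_sum_units h1 h2 h3 (fun κ => κ * x) (fun _ _ e => mul_right_cancel₀ hx e) (by simp)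

end Cfsg.Agent.SzC
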