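import Mathlib
import Cfsg.Agent.SzC.QChar

set_option autoImplicit false
set_option linter.unusedSectionVars false

/-! The partition of a Suzuki group and the resulting summation formula for class functions. -/

open scoped ComplexConjugate

namespace Cfsg.Agent.SzC

open Cfsg Cfsg.Agent.Char Cfsg.Agent.Char.Ind Cfsg.Agent.RankOne Cfsg.Agent.RankOne.Sz

variable {G Ω F : Type*} [Group G] [MulAction G Ω] [Field F] [Fintype F] {m : ℕ}

/-- the two classes of fixed point free cyclic tori. -/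
structure Tori (Z : Model G Ω F m) where
  T : Subgroup G
  T' : Subgroup G
  u : ℤ
  hu : u = 1 ∨ u = -1
  cc : CC T 4
  cc' : CC T' 4
  card : (Nat.card T : ℤ) = 2 * (2 ^ m) ^ 2 + 2 * u * 2 ^ m + 1
  card' : (Nat.card T' : ℤ) = 2 * (2 ^ m) ^ 2 - 2 * u * 2 ^ m + 1
  fpf : ∀ g ∈ conjSet T, ∀ c : Ω, g • c ≠ c
  fpf' : ∀ g ∈ conjSet T', ∀ c : Ω, g • c ≠ c
  disj : Disjoint (conjSet T) (conjSet T')
  cover : ∀ g : G, (∀ c : Ω, g • c ≠ c) → g ∈ conjSet T ∨ g ∈ conjSet T'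

theorem exists_tori [Fintype G] (Z : Model G Ω F m) : ∃ P : Tori Z, P.u = 1 := by
  obtain ⟨g, g1, hg⟩ := Z.exists_pow_kp
  obtain ⟨h, h1, hh⟩ := Z.exists_pow_km
  obtain ⟨fg, cg⟩ := Z.card_torus_of_pow_kp g1 hg
  obtain ⟨fh, ch⟩ := Z.card_torus_of_pow_km h1 hh
  have hn : ∀ x : G, x * h * x⁻¹ ∉ Subgroup.centralizer {g} := fun x hx => by
    have e1 := Model.orderOf_dvd_card_of_conj hx
    rw [cg, orderOf_dvd_iff_pow_eq_one] at e1
    exact h1 (Model.one_of_coprime Z.coprime_k e1 hh)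
  have cc : ∀ g : G, (∀ c : Ω, g • c ≠ c) → CC (Subgroup.centralizer {g}) 4 := fun g hg =>
    ⟨fun x hx h1 => Z.centralizer_eq_of_fpf hg h1 (Subgroup.mem_centralizer_singleton_iff.mp hx),
      Z.card_normalizer_torus hg⟩
  refine ⟨⟨_, _, 1, Or.inl rfl, cc g fg, cc h fh, ?_, ?_, fun x hx => Z.conjSet_torus_subset fg hx,
    fun x hx => Z.conjSet_torus_subset fh hx, Z.disjoint_conjSet_torus fg fh hn, fun k hk => ?_⟩, rfl⟩
  · rw [cg]; push_cast; ring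
  · rw [ch]; push_cast [r_le_q]; ring
  · exact (Z.conj_of_three fg fh hk hn).imp (fun e => ⟨Z.ne_one_of_fpf hk, e⟩)
      fun e => ⟨Z.ne_one_of_fpf hk, e⟩

theorem mem_conjSet {H : Subgroup G} {g : G} (hg : g ∈ H) (h1 : g ≠ 1) : g ∈ conjSet H :=
  ⟨h1, 1, by simpa using hg⟩

theorem ind_zero' [Fintype G] {K : Subgroup G} (θ : K → ℂ) {g : G} (h1 : g ≠ 1) (hg : g ∉ conjSet K) :
    indFun K θ g = 0 := ind_zero K θ fun x hx => hg ⟨h1, x, hx⟩

theorem ccD (Z : Model G Ω F m) : CC Z.D 2 := by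
  refine ⟨fun x hx h1 => ?_, by rw [Z.card_normalizer_D, Z.card_D]⟩
  obtain ⟨κ, rfl⟩ := (Z.mem_D x).mp hx
  exact Z.centralizer_M fun e => h1 (by rw [e, map_one])

theorem fix_of_Q (Z : Model G Ω F m) {g : G} (hg : g ∈ conjSet Z.Q) : ¬ ∀ c : Ω, g • c ≠ c := fun h =>
  let ⟨_, hx⟩ := hg.2
  h _ (Z.fix_of_conj_mem_B (Z.Q_le_B hx))

theorem fix_of_D (Z : Model G Ω F m) {g : G} (hg : g ∈ conjSet Z.D) : ¬ ∀ c : Ω, g • c ≠ c := fun h =>
  let ⟨_, hx⟩ := hg.2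
  h _ (Z.fix_of_conj_mem_B hx.1)

theorem S_mem_conjSet (Z : Model G Ω F m) {x y : F} (h : ¬ (x = 0 ∧ y = 0)) : Z.S x y ∈ conjSet Z.Q :=
  mem_conjSet (Z.S_mem x y) (by rwa [Ne, Z.S_eq_one_iff])

/-- the permutation character. -/
noncomputable def pc (_Z : Model G Ω F m) : G → ℂ := fun g => (Nat.card (MulAction.fixedBy Ω g) : ℂ)

theorem isChar_pc (Z : Model G Ω F m) : IsCharacter G (pc Z) :=
  have := Z.finite_omega
  isChar_perm Ω

theorem pc_one (Z : Model G Ω F m) : pc Z 1 = (2 * (2 ^ m) ^ 2) ^ 2 + 1 := by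
  rw [pc, MulAction.fixedBy_one_eq_univ, Nat.card_univ, Z.card_omega]
  push_cast
  rw [cast_q Z]

theorem pc_Q (Z : Model G Ω F m) {g : G} (hg : g ∈ Z.Q) (h1 : g ≠ 1) : pc Z g = 1 := by
  have : MulAction.fixedBy Ω g = {Z.a} := by
    ext c
    exact ⟨fun h => Z.a_of_fix hg h1 h, by rintro rfl; exact Z.Q_le_B hg⟩
  simp [pc, this]

theorem pc_D (Z : Model G Ω F m) {g : G} (hg : g ∈ Z.D) (h1 : g ≠ 1) : pc Z g = 2 := by
  obtain ⟨κ, rfl⟩ := (Z.mem_D g).mp hg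
  have : MulAction.fixedBy Ω (Z.M κ) = {Z.a, Z.t • Z.a} := by
    ext c
    refine ⟨fun h => Z.fix_M (fun e => h1 (by rw [e, map_one])) h, ?_⟩
    rintro (rfl | rfl)
    · exact Z.M_a κ
    · exact Z.M_b κ
  rw [pc, this, Nat.card_coe_set_eq, Set.ncard_pair Z.ta_ne.symm]
  simp

theorem pc_fpf (Z : Model G Ω F m) {g : G} (hg : ∀ c : Ω, g • c ≠ c) : pc Z g = 0 := by
  have : MulAction.fixedBy Ω g = ∅ := by
    ext c
    simpa using hg c
  simp [pc, this]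

theorem sig_Q [Fintype G] (Z : Model G Ω F m) {f : G → ℂ} {a c : ℂ} (ha : ∀ b, b ≠ 0 → f (Z.S 0 b) = a)
    (hc : ∀ x y, x ≠ 0 → f (Z.S x y) = c) :
    sig Z.Q f = (2 * (2 ^ m) ^ 2 - 1) * (a + 2 * (2 ^ m) ^ 2 * c) := by
  classical
  have := Fintype.ofFinite Z.Q
  have e0 : ((Finset.univ.erase (0 : F)).card : ℂ) = 2 * (2 ^ m) ^ 2 - 1 := by
    rw [Finset.card_erase_of_mem (Finset.mem_univ _), Finset.card_univ, cast_q_sub Z]
  rw [sig_eq, ← Z.equivQ.sum_comp, Fintype.sum_prod_type, ← Finset.add_sum_erase _ _ (Finset.mem_univ 0),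
    ← Finset.add_sum_erase _ _ (Finset.mem_univ 0), Finset.sum_congr rfl (g := fun _ => a),
    Finset.sum_congr rfl (g := fun _ => (Fintype.card F : ℂ) * c)
      (f := fun x => ∑ y, f (Z.equivQ (x, y))), Finset.sum_const, Finset.sum_const, nsmul_eq_mul,
    nsmul_eq_mul, e0, cast_q Z]
  · have : f (Z.equivQ (0, 0)) = f 1 := congrArg f Z.S_zero
    rw [this]; ring
  · intro x hx
    change ∑ y, f (Z.S x y) = _
    rw [Finset.sum_congr rfl (g := fun _ => c) fun y _ => hc x y (by simpa using hx), Finset.sum_const,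
      Finset.card_univ, nsmul_eq_mul]
  · intro b hb
    exact ha b (by simpa using hb)

theorem cast_G (Z : Model G Ω F m) : (Nat.card G : ℂ) =
    (2 * (2 ^ m) ^ 2) ^ 2 * ((2 * (2 ^ m) ^ 2) ^ 2 + 1) * (2 * (2 ^ m) ^ 2 - 1) := by
  rw [Z.card_G, Nat.cast_mul, cast_q_sub Z]; push_cast; rw [cast_q Z]

theorem cast_D (Z : Model G Ω F m) : (Nat.card Z.D : ℂ) = 2 * (2 ^ m) ^ 2 - 1 := by
  rw [Z.card_D, cast_q_sub Z]

namespace Tori

variable {Z : Model G Ω F m} (P : Tori Z)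

/-- interchanging the two tori. -/
def swap : Tori Z where
  T := P.T'
  T' := P.T
  u := -P.u
  hu := by rcases P.hu with h | h <;> simp [h]
  cc := P.cc'
  cc' := P.cc
  card := by rw [P.card']; ring
  card' := by rw [P.card]; ring
  fpf := P.fpf'
  fpf' := P.fpf
  disj := P.disj.symm
  cover g hg := (P.cover g hg).symm

theorem cast_T : (Nat.card P.T : ℂ) = 2 * (2 ^ m) ^ 2 + 2 * P.u * 2 ^ m + 1 := by
  exact_mod_cast congrArg (Int.cast : ℤ → ℂ) P.card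

theorem cast_T' : (Nat.card P.T' : ℂ) = 2 * (2 ^ m) ^ 2 - 2 * P.u * 2 ^ m + 1 := by
  exact_mod_cast congrArg (Int.cast : ℤ → ℂ) P.card'

theorem u_sq : (P.u : ℂ) ^ 2 = 1 := by rcases P.hu with h | h <;> simp [h]

theorem odd_T : Odd (Nat.card P.T) := by
  have : Odd (Nat.card P.T : ℤ) := ⟨(2 ^ m) ^ 2 + P.u * 2 ^ m, by rw [P.card]; ring⟩
  exact_mod_cast this

theorem mem_cases {g : G} (h1 : g ≠ 1) :
    g ∈ conjSet Z.Q ∨ g ∈ conjSet Z.D ∨ g ∈ conjSet P.T ∨ g ∈ conjSet P.T' := by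
  by_cases h : ∀ c : Ω, g • c ≠ c
  · exact Or.inr (Or.inr (P.cover g h))
  · push Not at h
    obtain ⟨c, hc⟩ := h
    rcases Z.conj_into_of_fix hc with e | e
    · exact Or.inl ⟨h1, e⟩
    · exact Or.inr (Or.inl ⟨h1, e⟩)

theorem cases {p : G → Prop} (hc : ∀ g x, p (x * g * x⁻¹) → p g) (h1 : p 1)
    (hs : ∀ b, b ≠ 0 → p (Z.S 0 b)) (hr : ∀ x y, x ≠ 0 → p (Z.S x y))
    (hD : ∀ g ∈ Z.D, g ≠ 1 → p g) (hT : ∀ g ∈ P.T, g ≠ 1 → p g) (hT' : ∀ g ∈ P.T', g ≠ 1 → p g)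
    (g : G) : p g := by
  by_cases hg : g = 1
  · exact hg ▸ h1
  have key : ∀ x : G, x * g * x⁻¹ ≠ 1 := fun x => by simpa using hg
  rcases P.mem_cases hg with ⟨-, k, h⟩ | ⟨-, k, h⟩ | ⟨-, k, h⟩ | ⟨-, k, h⟩ <;> refine hc g k ?_
  · obtain ⟨x, y, e⟩ := (Z.mem_Q _).mp h
    have := key k
    rw [e] at this ⊢
    by_cases hx : x = 0
    · subst hx
      exact hs y fun e => this (by rw [e, Z.S_zero])
    · exact hr x y hx
  · exact hD _ h (key k)
  · exact hT _ h (key k)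
  · exact hT' _ h (key k)

theorem QnT {g : G} (hg : g ∈ conjSet Z.Q) : g ∉ conjSet P.T := fun h => fix_of_Q Z hg (P.fpf g h)
theorem DnT {g : G} (hg : g ∈ conjSet Z.D) : g ∉ conjSet P.T := fun h => fix_of_D Z hg (P.fpf g h)
theorem TnQ {g : G} (hg : g ∈ conjSet P.T) : g ∉ conjSet Z.Q := fun h => P.QnT h hg
theorem TnD {g : G} (hg : g ∈ conjSet P.T) : g ∉ conjSet Z.D := fun h => P.DnT h hg
theorem TnT' {g : G} (hg : g ∈ conjSet P.T) : g ∉ conjSet P.T' := Set.disjoint_left.mp P.disj hg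
theorem T'nT {g : G} (hg : g ∈ conjSet P.T') : g ∉ conjSet P.T := Set.disjoint_right.mp P.disj hg
omit P in
theorem QnD {g : G} (hg : g ∈ conjSet Z.Q) : g ∉ conjSet Z.D := Set.disjoint_left.mp Z.disjoint_conjSet_Q_D hg
omit P in
theorem DnQ {g : G} (hg : g ∈ conjSet Z.D) : g ∉ conjSet Z.Q := Set.disjoint_right.mp Z.disjoint_conjSet_Q_D hg

variable [Fintype G]

open Classical in
theorem sum_split (f : G → ℂ) : ∑ g, f g = f 1 + ∑ g with g ∈ conjSet Z.Q, f g +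
    ∑ g with g ∈ conjSet Z.D, f g + ∑ g with g ∈ conjSet P.T, f g + ∑ g with g ∈ conjSet P.T', f g := by
  have e1 : f 1 = ∑ g, if g = 1 then f g else 0 := by simp
  rw [e1]
  simp only [Finset.sum_filter, ← Finset.sum_add_distrib]
  refine Finset.sum_congr rfl fun g _ => ?_
  by_cases hg : g = 1
  · simp [hg, conjSet]
  rcases P.mem_cases hg with h | h | h | h
  · simp [hg, h, QnD h, P.QnT h, show g ∉ conjSet P.T' from P.swap.QnT h]
  · simp [hg, h, DnQ h, P.DnT h, show g ∉ conjSet P.T' from P.swap.DnT h]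
  · simp [hg, h, P.TnQ h, P.TnD h, P.TnT' h]
  · simp [hg, h, P.swap.TnQ h, P.swap.TnD h, P.T'nT h]

theorem avg {f : G → ℂ} (hf : IsClassFunction G f) {a c : ℂ} (ha : ∀ b, b ≠ 0 → f (Z.S 0 b) = a)
    (hc : ∀ x y, x ≠ 0 → f (Z.S x y) = c) :
    (Nat.card G : ℂ)⁻¹ * ∑ g, f g = f 1 / Nat.card G + (a + 2 * (2 ^ m) ^ 2 * c) / (2 * (2 ^ m) ^ 2) ^ 2 +
      sig Z.D f / (2 * Nat.card Z.D) + sig P.T f / (4 * Nat.card P.T) + sig P.T' f / (4 * Nat.card P.T') := by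
  have h1 := sum_conjSet (H := Z.Q) (N := Z.B) (fun n hn x hx => Z.B_conj_Q hn hx)
    (fun g x hx h1 h => Z.mem_B_of_conj_mem_Q hx h1 h) hf
  have h2 := sum_conjSet (CC.hN _) (ccD Z).hTI hf
  have h3 := sum_conjSet (CC.hN _) P.cc.hTI hf
  have h4 := sum_conjSet (CC.hN _) P.cc'.hTI hf
  rw [sig_Q Z ha hc, Z.card_B, Nat.cast_mul, cast_q_sub Z, Nat.cast_pow, cast_q Z] at h1
  rw [(ccD Z).card] at h2
  rw [P.cc.card] at h3
  rw [P.cc'.card] at h4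
  push_cast at h2 h3 h4
  have hG : (Nat.card G : ℂ) ≠ 0 := card_ne_zero
  have hD : (Nat.card Z.D : ℂ) ≠ 0 := card_ne_zero
  have hT : (Nat.card P.T : ℂ) ≠ 0 := card_ne_zero
  have hT' : (Nat.card P.T' : ℂ) ≠ 0 := card_ne_zero
  have hD' := hD
  rw [cast_D] at hD'
  have e1 := eq_div_of_mul_eq (mul_ne_zero (by simp) hD') h1
  have e2 := eq_div_of_mul_eq (mul_ne_zero two_ne_zero hD) h2
  have e3 := eq_div_of_mul_eq (mul_ne_zero (by norm_num) hT) h3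
  have e4 := eq_div_of_mul_eq (mul_ne_zero (by norm_num) hT') h4
  rw [P.sum_split, e1, e2, e3, e4]
  field_simp

end Tori

end Cfsg.Agent.SzC
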