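import Mathlib
import Cfsg.Agent.SzC.Part
import Cfsg.Prelude.Def_DegreeGraph

set_option autoImplicit false
set_option linter.unusedSectionVars false

/-! The character table of a Suzuki group. -/

open scoped ComplexConjugate

namespace Cfsg.Agent.SzC

open Cfsg Cfsg.Agent.Char Cfsg.Agent.Char.Ind Cfsg.Agent.RankOne Cfsg.Agent.RankOne.Sz

variable {G Ω F : Type*} [Group G] [MulAction G Ω] [Field F] [Fintype F] {m : ℕ} [Fintype G]

local notation "𝐬" => ((2 : ℂ) ^ m)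

/-- two characters induced from the Sylow 2-subgroup. -/
structure QC (Z : Model G Ω F m) where
  Φ : G → ℂ
  Ψ : G → ℂ
  cΦ : IsCharacter G Φ
  cΨ : IsCharacter G Ψ
  Φ1 : Φ 1 = ((2 * 𝐬 ^ 2) ^ 2 + 1) * (2 * 𝐬 ^ 2 - 1) * 𝐬
  Ψ1 : Ψ 1 = ((2 * 𝐬 ^ 2) ^ 2 + 1) * (2 * 𝐬 ^ 2 - 1)
  Φs : ∀ b, b ≠ 0 → Φ (Z.S 0 b) = -𝐬
  Ψs : ∀ b, b ≠ 0 → Ψ (Z.S 0 b) = 2 * 𝐬 ^ 2 - 1
  Φr : ∀ x y, x ≠ 0 → Φ (Z.S x y) ^ 2 = -𝐬 ^ 2
  Ψr : ∀ x y, x ≠ 0 → Ψ (Z.S x y) = -1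
  Φ0 : ∀ g, g ≠ 1 → g ∉ conjSet Z.Q → Φ g = 0
  Ψ0 : ∀ g, g ≠ 1 → g ∉ conjSet Z.Q → Ψ g = 0

theorem nonempty_QC (Z : Model G Ω F m) : Nonempty (QC Z) :=
  let ⟨Φ, Ψ, h1, h2, h3, h4, h5, h6, h7, h8, h9, h10⟩ := exists_Phi_Psi Z
  ⟨⟨Φ, Ψ, h1, h2, h3, h4, h5, h6, h7, h8, h9, h10⟩⟩

theorem conj_s : conj 𝐬 = 𝐬 := by simp only [map_pow, map_ofNat]

theorem QC.conj_r {Z : Model G Ω F m} (C : QC Z) {x : F} (y : F) (hx : x ≠ 0) :
    conj (C.Φ (Z.S x y)) = -C.Φ (Z.S x y) := conj_of_sq conj_s (C.Φr x y hx)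

/-- the values of a virtual character on the six types of elements. -/
structure Val {Z : Model G Ω F m} (P : Tori Z) (f : G → ℂ) (d a : ℂ) (r fD fT fT' : G → ℂ) : Prop where
  gen : IsGeneralizedCharacter G f
  one : f 1 = d
  s : ∀ b, b ≠ 0 → f (Z.S 0 b) = a
  r : ∀ x y, x ≠ 0 → f (Z.S x y) = r (Z.S x y)
  D : ∀ g ∈ Z.D, g ≠ 1 → f g = fD g
  T : ∀ g ∈ P.T, g ≠ 1 → f g = fT g
  T' : ∀ g ∈ P.T', g ≠ 1 → f g = fT' g

theorem S_ne (Z : Model G Ω F m) {x y : F} (h : ¬ (x = 0 ∧ y = 0)) : Z.S x y ≠ 1 := by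
  rwa [Ne, Z.S_eq_one_iff]

variable {Z : Model G Ω F m} (P : Tori Z) (C : QC Z)

theorem Val.swap {f : G → ℂ} {d a : ℂ} {r fD fT fT' : G → ℂ} (h : Val P.swap f d a r fD fT fT') :
    Val P f d a r fD fT' fT := ⟨h.gen, h.one, h.s, h.r, h.D, h.T', h.T⟩

theorem val_pc : Val P (pc Z) ((2 * 𝐬 ^ 2) ^ 2 + 1) 1 (fun _ => 1) (fun _ => 2) (fun _ => 0) (fun _ => 0) :=
  ⟨isChar_isGenChar (isChar_pc Z), pc_one Z, fun _ hb => pc_Q Z (Z.S_mem _ _) (S_ne Z (by simp [hb])),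
    fun _ _ hx => pc_Q Z (Z.S_mem _ _) (S_ne Z (by simp [hx])), fun _ => pc_D Z,
    fun g hg h1 => pc_fpf Z (P.fpf g (mem_conjSet hg h1)), fun g hg h1 => pc_fpf Z (P.fpf' g (mem_conjSet hg h1))⟩

theorem val_Φ : Val P C.Φ (((2 * 𝐬 ^ 2) ^ 2 + 1) * (2 * 𝐬 ^ 2 - 1) * 𝐬) (-𝐬) C.Φ (fun _ => 0) (fun _ => 0)
    (fun _ => 0) :=
  ⟨isChar_isGenChar C.cΦ, C.Φ1, C.Φs, fun _ _ _ => rfl,
    fun g hg h1 => C.Φ0 g h1 (Tori.DnQ (mem_conjSet hg h1)),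
    fun g hg h1 => C.Φ0 g h1 (P.TnQ (mem_conjSet hg h1)),
    fun g hg h1 => C.Φ0 g h1 (P.swap.TnQ (mem_conjSet hg h1))⟩

theorem val_Ψ : Val P C.Ψ (((2 * 𝐬 ^ 2) ^ 2 + 1) * (2 * 𝐬 ^ 2 - 1)) (2 * 𝐬 ^ 2 - 1) (fun _ => -1) (fun _ => 0)
    (fun _ => 0) (fun _ => 0) :=
  ⟨isChar_isGenChar C.cΨ, C.Ψ1, C.Ψs, C.Ψr,
    fun g hg h1 => C.Ψ0 g h1 (Tori.DnQ (mem_conjSet hg h1)),
    fun g hg h1 => C.Ψ0 g h1 (P.TnQ (mem_conjSet hg h1)),
    fun g hg h1 => C.Ψ0 g h1 (P.swap.TnQ (mem_conjSet hg h1))⟩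

theorem index_D (Z : Model G Ω F m) : (Z.D.index : ℂ) = (2 * 𝐬 ^ 2) ^ 2 * ((2 * 𝐬 ^ 2) ^ 2 + 1) := by
  have h := congrArg (Nat.cast : ℕ → ℂ) Z.D.card_mul_index
  rw [Nat.cast_mul, cast_G Z] at h
  apply mul_left_cancel₀ (card_ne_zero (G := Z.D))
  rw [h, cast_D]; ring

theorem index_T : (P.T.index : ℂ) = (2 * 𝐬 ^ 2) ^ 2 * (2 * 𝐬 ^ 2 - 1) * (2 * 𝐬 ^ 2 - 2 * P.u * 𝐬 + 1) := by
  have h := congrArg (Nat.cast : ℕ → ℂ) P.T.card_mul_index
  rw [Nat.cast_mul, cast_G Z] at h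
  apply mul_left_cancel₀ (card_ne_zero (G := P.T))
  rw [h, P.cast_T]
  linear_combination (4 * 𝐬 ^ 2 * (2 * 𝐬 ^ 2) ^ 2 * (2 * 𝐬 ^ 2 - 1)) * P.u_sq

theorem val_indD {θ : Z.D → ℂ} (hθ : IsIrrCharacter Z.D θ) :
    Val P (indFun Z.D θ) ((2 * 𝐬 ^ 2) ^ 2 * ((2 * 𝐬 ^ 2) ^ 2 + 1)) 0 (fun _ => 0) (indFun Z.D θ) (fun _ => 0)
      (fun _ => 0) :=
  have := (ccD Z).isMulComm
  ⟨IndRep.isGenChar_indFun _ (isIrr_isGenChar hθ),
    by rw [indFun_one, isIrr_degree_one_of_comm hθ, mul_one, index_D],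
    fun _ hb => ind_zero' _ (S_ne Z (by simp [hb])) (Tori.QnD (S_mem_conjSet Z (by simp [hb]))),
    fun _ _ hb => ind_zero' _ (S_ne Z (by simp [hb])) (Tori.QnD (S_mem_conjSet Z (by simp [hb]))),
    fun _ _ _ => rfl, fun _ hg h1 => ind_zero' _ h1 (P.TnD (mem_conjSet hg h1)),
    fun _ hg h1 => ind_zero' _ h1 (P.swap.TnD (mem_conjSet hg h1))⟩

theorem val_indT {θ : P.T → ℂ} (hθ : IsIrrCharacter P.T θ) :
    Val P (indFun P.T θ) ((2 * 𝐬 ^ 2) ^ 2 * (2 * 𝐬 ^ 2 - 1) * (2 * 𝐬 ^ 2 - 2 * P.u * 𝐬 + 1)) 0 (fun _ => 0)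
      (fun _ => 0) (indFun P.T θ) (fun _ => 0) :=
  have := P.cc.isMulComm
  ⟨IndRep.isGenChar_indFun _ (isIrr_isGenChar hθ),
    by rw [indFun_one, isIrr_degree_one_of_comm hθ, mul_one, index_T],
    fun _ hb => ind_zero' _ (S_ne Z (by simp [hb])) (P.QnT (S_mem_conjSet Z (by simp [hb]))),
    fun _ _ hb => ind_zero' _ (S_ne Z (by simp [hb])) (P.QnT (S_mem_conjSet Z (by simp [hb]))),
    fun _ hg h1 => ind_zero' _ h1 (P.DnT (mem_conjSet hg h1)), fun _ _ _ => rfl,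
    fun _ hg h1 => ind_zero' _ h1 (P.T'nT (mem_conjSet hg h1))⟩

/-- the Steinberg character. -/
noncomputable def St (Z : Model G Ω F m) : G → ℂ := fun g => pc Z g - 1

/-- the principal series. -/
noncomputable def X (θ : Z.D → ℂ) : G → ℂ := fun g => pc Z g + indFun Z.D θ g - indFun Z.D (fun _ => 1) g

/-- the two discrete series. -/
noncomputable def Y (θ : P.T → ℂ) : G → ℂ := fun g =>
  C.Ψ g + (𝐬 - P.u) * (C.Φ g + conj (C.Φ g)) - indFun P.T θ g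

/-- the exceptional unipotent character. -/
noncomputable def W : G → ℂ := fun g =>
  C.Φ g - P.u * (((4 : ℕ) : ℂ)⁻¹ * (regChar G g - indFun P.T (fun _ => 1) g) -
    ((4 : ℕ) : ℂ)⁻¹ * (regChar G g - indFun P.T' (fun _ => 1) g))

theorem val_St : Val P (St Z) ((2 * 𝐬 ^ 2) ^ 2) 0 (fun _ => 0) (fun _ => 1) (fun _ => -1) (fun _ => -1) :=
  have h := val_pc P
  ⟨isGenChar_sub h.gen isGenChar_one, by rw [St, h.one]; ring, fun b hb => by rw [St, h.s b hb]; ring,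
    fun x y hx => by rw [St, h.r x y hx]; ring, fun g hg h1 => by rw [St, h.D g hg h1]; ring,
    fun g hg h1 => by rw [St, h.T g hg h1]; ring, fun g hg h1 => by rw [St, h.T' g hg h1]; ring⟩

theorem val_X {θ : Z.D → ℂ} (hθ : IsIrrCharacter Z.D θ) :
    Val P (X θ) ((2 * 𝐬 ^ 2) ^ 2 + 1) 1 (fun _ => 1) (indFun Z.D θ) (fun _ => 0) (fun _ => 0) :=
  have h := val_pc P
  have k := val_indD P hθ
  have l := val_indD P isIrr_one
  ⟨isGenChar_sub (isGenChar_add h.gen k.gen) l.gen, by rw [X, h.one, k.one, l.one]; ring,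
    fun b hb => by rw [X, h.s b hb, k.s b hb, l.s b hb]; ring,
    fun x y hx => by rw [X, h.r x y hx, k.r x y hx, l.r x y hx]; ring,
    fun g hg h1 => by rw [X, h.D g hg h1, (ccD Z).ind_one hg h1]; push_cast; ring,
    fun g hg h1 => by rw [X, h.T g hg h1, k.T g hg h1, l.T g hg h1]; ring,
    fun g hg h1 => by rw [X, h.T' g hg h1, k.T' g hg h1, l.T' g hg h1]; ring⟩

theorem val_Y {θ : P.T → ℂ} (hθ : IsIrrCharacter P.T θ) :
    Val P (Y P C θ) ((2 * 𝐬 ^ 2 - 1) * (2 * 𝐬 ^ 2 - 2 * P.u * 𝐬 + 1)) (2 * P.u * 𝐬 - 1) (fun _ => -1) (fun _ => 0)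
      (fun g => -indFun P.T θ g) (fun _ => 0) := by
  have h := val_Ψ P C
  have k := val_Φ P C
  have l := val_indT P hθ
  refine ⟨?_, by rw [Y, h.one, k.one, l.one]; simp only [map_mul, map_add, map_sub, map_pow, map_one, map_ofNat]; ring,
    fun b hb => by rw [Y, h.s b hb, k.s b hb, l.s b hb, map_neg, conj_s]; ring,
    fun x y hx => by rw [Y, h.r x y hx, C.conj_r y hx, l.r x y hx]; ring,
    fun g hg h1 => by rw [Y, h.D g hg h1, k.D g hg h1, l.D g hg h1]; simp,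
    fun g hg h1 => by rw [Y, h.T g hg h1, k.T g hg h1]; simp,
    fun g hg h1 => by rw [Y, h.T' g hg h1, k.T' g hg h1, l.T' g hg h1]; simp⟩
  have := isGenChar_sub (isGenChar_add h.gen (isGenChar_intCast_smul (2 ^ m - P.u)
    (isGenChar_add k.gen (isGenChar_conj k.gen)))) l.gen
  convert this using 1
  ext g
  simp only [Y, Pi.sub_apply, Pi.add_apply, Pi.smul_apply, smul_eq_mul]
  push_cast
  rfl

theorem val_W : Val P (W P C) ((2 * 𝐬 ^ 2 - 1) * 𝐬) (-𝐬) C.Φ (fun _ => 0) (fun _ => P.u) (fun _ => -P.u) := by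
  have k := val_Φ P C
  have l := val_indT P isIrr_one
  have l' : Val P (indFun P.T' fun _ => 1) _ _ _ _ _ _ := Val.swap P (val_indT P.swap isIrr_one)
  have hu : (P.swap.u : ℂ) = -P.u := Int.cast_neg _
  refine ⟨?_, ?_,
    fun b hb => by rw [W, k.s b hb, l.s b hb, l'.s b hb]; ring,
    fun x y hx => by rw [W, l.r x y hx, l'.r x y hx]; ring,
    fun g hg h1 => by rw [W, k.D g hg h1, l.D g hg h1, l'.D g hg h1]; ring,
    fun g hg h1 => by rw [W, k.T g hg h1, P.cc.ind_one hg h1, l'.T g hg h1]; push_cast; ring,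
    fun g hg h1 => by rw [W, k.T' g hg h1, P.cc'.ind_one hg h1, l.T' g hg h1]; push_cast; ring⟩
  · have c4 : ∀ n, Odd n → Nat.Coprime 4 n := fun n hn =>
      Nat.Coprime.pow_left 2 (Nat.coprime_two_left.mpr hn)
    exact isGenChar_sub k.gen (isGenChar_intCast_smul P.u (isGenChar_sub
      (P.cc.genChar_R (c4 _ P.odd_T) (by norm_num)) (P.cc'.genChar_R (c4 _ P.swap.odd_T) (by norm_num))))
  · rw [W, k.one, l.one, l'.one, hu]
    push_cast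
    linear_combination (-(2 * 𝐬 ^ 2) ^ 2 * (2 * 𝐬 ^ 2 - 1) * 𝐬) * P.u_sq

include P in
theorem ne_zeros : 𝐬 ≠ 0 ∧ 2 * 𝐬 ^ 2 - 1 ≠ 0 ∧ 2 * 𝐬 ^ 2 + 2 * P.u * 𝐬 + 1 ≠ 0 ∧
    2 * 𝐬 ^ 2 - 2 * P.u * 𝐬 + 1 ≠ 0 ∧
    (2 * 𝐬 ^ 2) ^ 2 + 1 = (2 * 𝐬 ^ 2 + 2 * P.u * 𝐬 + 1) * (2 * 𝐬 ^ 2 - 2 * P.u * 𝐬 + 1) :=
  ⟨by simp, cast_D Z ▸ card_ne_zero, P.cast_T ▸ card_ne_zero, P.cast_T' ▸ card_ne_zero,
    by linear_combination (4 * 𝐬 ^ 2) * P.u_sq⟩

theorem Val.irr {f : G → ℂ} {d a c : ℂ} {r fD fT fT' : G → ℂ} (h : Val P f d a r fD fT fT')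
    (hd : 0 ≤ d.re) (hc : ∀ x y, x ≠ 0 → r (Z.S x y) * conj (r (Z.S x y)) = c) {A B B' : ℂ}
    (hA : sig Z.D (fun g => fD g * conj (fD g)) = A) (hB : sig P.T (fun g => fT g * conj (fT g)) = B)
    (hB' : sig P.T' (fun g => fT' g * conj (fT' g)) = B')
    (e : 4 * d * conj d + 4 * (a * conj a + 2 * 𝐬 ^ 2 * c) * ((2 * 𝐬 ^ 2) ^ 2 + 1) * (2 * 𝐬 ^ 2 - 1) +
      2 * A * (2 * 𝐬 ^ 2) ^ 2 * ((2 * 𝐬 ^ 2) ^ 2 + 1) +
      B * (2 * 𝐬 ^ 2) ^ 2 * (2 * 𝐬 ^ 2 - 2 * P.u * 𝐬 + 1) * (2 * 𝐬 ^ 2 - 1) +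
      B' * (2 * 𝐬 ^ 2) ^ 2 * (2 * 𝐬 ^ 2 + 2 * P.u * 𝐬 + 1) * (2 * 𝐬 ^ 2 - 1) =
      4 * (2 * 𝐬 ^ 2) ^ 2 * ((2 * 𝐬 ^ 2) ^ 2 + 1) * (2 * 𝐬 ^ 2 - 1)) :
    IsIrrCharacter G f := by
  refine isIrr_of_isGenChar_norm_one h.gen ?_ (by rwa [h.one])
  rw [classInner_def, P.avg (f := fun g => f g * conj (f g)) (a := a * conj a) (c := c)
    (fun g x => by simp only [isGenChar_classFun h.gen g x]) (fun b hb => by rw [h.s b hb])
    (fun x y hx => by rw [h.r x y hx, hc x y hx]), h.one, cast_G Z, cast_D, P.cast_T, P.cast_T',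
    sig_congr (H := Z.D) fun g hg h1 => by rw [h.D g hg h1], hA,
    sig_congr (H := P.T) fun g hg h1 => by rw [h.T g hg h1], hB,
    sig_congr (H := P.T') fun g hg h1 => by rw [h.T' g hg h1], hB']
  obtain ⟨h1, h2, h3, h4, h5⟩ := ne_zeros P
  rw [h5] at e ⊢
  generalize 2 * 𝐬 ^ 2 - 1 = p at *
  generalize 2 * 𝐬 ^ 2 + 2 * P.u * 𝐬 + 1 = k at *
  generalize 2 * 𝐬 ^ 2 - 2 * P.u * 𝐬 + 1 = k' at *
  generalize a * conj a + 2 * 𝐬 ^ 2 * c = v at *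
  have h6 : (2 * 𝐬 ^ 2) ^ 2 ≠ 0 := by simp
  generalize (2 * 𝐬 ^ 2) ^ 2 = w at *
  field_simp
  linear_combination 2 * e

theorem re_nonneg_of {d : ℂ} {n : ℕ} (h : d = n) : 0 ≤ d.re := by simp [h]

include P in
theorem irr_St : IsIrrCharacter G (St Z) := by
  refine (val_St P).irr P (re_nonneg_of (n := (2 * (2 ^ m) ^ 2) ^ 2) (by simp)) (c := 0) (by simp)
    (sig_const (c := 1) (by simp)) (sig_const (c := 1) (by simp)) (sig_const (c := 1) (by simp)) ?_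
  rw [cast_D, P.cast_T, P.cast_T']
  simp only [map_mul, map_pow, map_ofNat, map_zero]
  rcases P.hu with hu | hu <;> rw [hu] <;> push_cast <;> ring

include P in
theorem irr_X {θ : Z.D → ℂ} (hθ : IsIrrCharacter Z.D θ) (hθ1 : θ ≠ fun _ => 1) : IsIrrCharacter G (X θ) := by
  refine (val_X P hθ).irr P (re_nonneg_of (n := (2 * (2 ^ m) ^ 2) ^ 2 + 1) (by simp)) (c := 1) (by simp)
    ((ccD Z).sig_norm hθ hθ1) (sig_const (c := 0) (by simp)) (sig_const (c := 0) (by simp)) ?_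
  rw [cast_D]
  simp only [map_mul, map_pow, map_ofNat, map_add, map_one]
  push_cast
  ring

theorem irr_Y {θ : P.T → ℂ} (hθ : IsIrrCharacter P.T θ) (hθ1 : θ ≠ fun _ => 1) : IsIrrCharacter G (Y P C θ) := by
  refine (val_Y P C hθ).irr P (re_nonneg_of (n := Nat.card Z.D * Nat.card P.T')
    (by rw [Nat.cast_mul, cast_D, P.cast_T'])) (c := 1) (by simp)
    (sig_const (c := 0) (by simp)) (by simpa using P.cc.sig_norm hθ hθ1) (sig_const (c := 0) (by simp)) ?_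
  rw [P.cast_T]
  simp only [map_mul, map_pow, map_ofNat, map_add, map_one, map_sub, map_intCast]
  rcases P.hu with hu | hu <;> rw [hu] <;> push_cast <;> ring

theorem irr_W : IsIrrCharacter G (W P C) := by
  have hu := P.u_sq
  refine (val_W P C).irr P (re_nonneg_of (n := Nat.card Z.D * 2 ^ m)
    (by rw [Nat.cast_mul, cast_D]; simp)) (c := 𝐬 ^ 2)
    (fun x y hx => by rw [C.conj_r y hx]; linear_combination -C.Φr x y hx)
    (sig_const (c := 0) (by simp)) (sig_const (c := 1) fun _ _ _ => by rw [map_intCast]; linear_combination hu)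
    (sig_const (c := 1) fun _ _ _ => by rw [map_neg, map_intCast]; linear_combination hu) ?_
  rw [P.cast_T, P.cast_T']
  simp only [map_mul, map_pow, map_ofNat, map_neg, map_one, map_sub]
  rcases P.hu with hu | hu <;> rw [hu] <;> push_cast <;> ring

/-- the nonprincipal irreducible characters. -/
noncomputable def np (T : Subgroup G) : Finset (IrrCharacter T) :=
  open Classical in Finset.univ.erase ⟨fun _ => 1, isIrr_one⟩

theorem mem_np {T : Subgroup G} {θ : IrrCharacter T} : θ ∈ np T ↔ θ.1 ≠ fun _ => 1 := by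
  simp [np, Subtype.ext_iff]

theorem sum_np {T : Subgroup G} {e : ℕ} (h : CC T e) (g : G) :
    ∑ θ ∈ np T, indFun T θ.1 g = regChar G g - indFun T (fun _ => 1) g := by
  have := h.isMulComm
  classical
  rw [← CC.sum_ind T, ← Finset.sum_erase_eq_sub (f := fun θ : IrrCharacter T => indFun T θ.1 g)
    (a := ⟨fun _ => 1, isIrr_one⟩) (Finset.mem_univ _)]
  congr 1

theorem card_np {T : Subgroup G} {e : ℕ} (h : CC T e) : ((np T).card : ℂ) = Nat.card T - 1 := by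
  have := h.isMulComm
  classical
  have e1 : np T = Finset.univ.erase ⟨fun _ => 1, isIrr_one⟩ := by ext θ; simp [np]
  rw [e1, Finset.card_erase_of_mem (Finset.mem_univ _), Finset.card_univ, ← Nat.card_eq_fintype_card,
    card_irr_of_comm, Nat.cast_sub Nat.card_pos, Nat.cast_one]

theorem sum_np_const {T : Subgroup G} {e : ℕ} (h : CC T e) {f : IrrCharacter T → ℂ} {c : ℂ}
    (hf : ∀ θ, f θ = c) : ∑ θ ∈ np T, f θ = (Nat.card T - 1) * c := by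
  rw [Finset.sum_congr rfl fun θ _ => hf θ, Finset.sum_const, nsmul_eq_mul, card_np h]

theorem sum_np_ind {T : Subgroup G} {e : ℕ} (h : CC T e) {f : IrrCharacter T → ℂ} {c : ℂ} {g : G}
    (hg : g ∈ T) (h1 : g ≠ 1) (hf : ∀ θ, f θ = c * indFun T θ.1 g) : ∑ θ ∈ np T, f θ = -c * e := by
  rw [Finset.sum_congr rfl fun θ _ => hf θ, ← Finset.mul_sum, sum_np h, regChar_of_ne h1, h.ind_one hg h1]
  ring

theorem val_Y' {θ : P.T' → ℂ} (hθ : IsIrrCharacter P.T' θ) :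
    Val P (Y P.swap C θ) ((2 * 𝐬 ^ 2 - 1) * (2 * 𝐬 ^ 2 + 2 * P.u * 𝐬 + 1)) (-(2 * P.u * 𝐬) - 1) (fun _ => -1)
      (fun _ => 0) (fun _ => 0) (fun g => -indFun P.T' θ g) := by
  have hu : (P.swap.u : ℂ) = -P.u := Int.cast_neg _
  have h := Val.swap P (val_Y P.swap C hθ)
  exact ⟨h.gen, by rw [h.one, hu]; ring, fun b hb => by rw [h.s b hb, hu]; ring, h.r, h.D, h.T, h.T'⟩

theorem reg_eq : regChar G = (fun _ => 1) + (2 * 𝐬 ^ 2) ^ 2 • St Z +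
    ((2 * 𝐬 ^ 2 - 1) * 𝐬) • (W P C + fun g => conj (W P C g)) +
    (((2 * 𝐬 ^ 2) ^ 2 + 1) / 2) • ∑ θ ∈ np Z.D, X θ.1 +
    ((2 * 𝐬 ^ 2 - 1) * (2 * 𝐬 ^ 2 - 2 * P.u * 𝐬 + 1) / 4) • ∑ θ ∈ np P.T, Y P C θ.1 +
    ((2 * 𝐬 ^ 2 - 1) * (2 * 𝐬 ^ 2 + 2 * P.u * 𝐬 + 1) / 4) • ∑ θ ∈ np P.T', Y P.swap C θ.1 := by
  funext g
  simp only [Pi.add_apply, Pi.smul_apply, Finset.sum_apply, smul_eq_mul]
  have a := val_St P
  have b := val_W P C
  have c := fun θ : IrrCharacter Z.D => val_X P θ.2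
  have d := fun θ : IrrCharacter P.T => val_Y P C θ.2
  have e := fun θ : IrrCharacter P.T' => val_Y' P C θ.2
  induction g using P.cases with
  | hc g x h =>
    rw [isChar_classFun isChar_regChar g x, isGenChar_classFun a.gen g x, isGenChar_classFun b.gen g x] at h
    simpa only [fun θ => isGenChar_classFun (c θ).gen g x, fun θ => isGenChar_classFun (d θ).gen g x,
      fun θ => isGenChar_classFun (e θ).gen g x] using h
  | h1 =>
    rw [regChar_one, a.one, b.one, sum_np_const (ccD Z) fun θ => (c θ).one, sum_np_const P.cc fun θ => (d θ).one,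
      sum_np_const P.cc' fun θ => (e θ).one, cast_G Z, cast_D, P.cast_T, P.cast_T']
    simp only [map_mul, map_pow, map_ofNat, map_one, map_sub]
    rcases P.hu with hu | hu <;> rw [hu] <;> push_cast <;> ring
  | hs y h =>
    rw [regChar_of_ne (S_ne Z (by simp [h])), a.s y h, b.s y h, sum_np_const (ccD Z) fun θ => (c θ).s y h,
      sum_np_const P.cc fun θ => (d θ).s y h, sum_np_const P.cc' fun θ => (e θ).s y h, cast_D, P.cast_T,
      P.cast_T', map_neg, conj_s]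
    rcases P.hu with hu | hu <;> rw [hu] <;> push_cast <;> ring
  | hr x y h =>
    rw [regChar_of_ne (S_ne Z (by simp [h])), a.r x y h, b.r x y h, sum_np_const (ccD Z) fun θ => (c θ).r x y h,
      sum_np_const P.cc fun θ => (d θ).r x y h, sum_np_const P.cc' fun θ => (e θ).r x y h, cast_D, P.cast_T,
      P.cast_T', C.conj_r y h]
    rcases P.hu with hu | hu <;> rw [hu] <;> push_cast <;> ring
  | hD g hg h =>
    rw [regChar_of_ne h, a.D g hg h, b.D g hg h,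
      sum_np_ind (c := 1) (ccD Z) hg h fun θ => ((c θ).D g hg h).trans (one_mul _).symm,
      sum_np_const P.cc fun θ => (d θ).D g hg h, sum_np_const P.cc' fun θ => (e θ).D g hg h, map_zero]
    push_cast; ring
  | hT g hg h =>
    rw [regChar_of_ne h, a.T g hg h, b.T g hg h, sum_np_const (ccD Z) fun θ => (c θ).T g hg h,
      sum_np_ind (c := -1) P.cc hg h fun θ => ((d θ).T g hg h).trans (neg_one_mul _).symm,
      sum_np_const P.cc' fun θ => (e θ).T g hg h, map_intCast]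
    push_cast; ring
  | hT' g hg h =>
    rw [regChar_of_ne h, a.T' g hg h, b.T' g hg h, sum_np_const (ccD Z) fun θ => (c θ).T' g hg h,
      sum_np_const P.cc fun θ => (d θ).T' g hg h,
      sum_np_ind (c := -1) P.cc' hg h fun θ => ((e θ).T' g hg h).trans (neg_one_mul _).symm,
      map_neg, map_intCast]
    push_cast; ring

theorem sum_irr (f : (G → ℂ) → ℂ) : ∑ χ : IrrCharacter G, f χ =
    f (fun _ => 1) + f (St Z) + (f (W P C) + f fun g => conj (W P C g)) + 2⁻¹ * ∑ θ ∈ np Z.D, f (X θ.1) +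
      4⁻¹ * ∑ θ ∈ np P.T, f (Y P C θ.1) + 4⁻¹ * ∑ θ ∈ np P.T', f (Y P.swap C θ.1) := by
  classical
  let L : (G → ℂ) →ₗ[ℂ] ℂ :=
    { toFun := fun φ => ∑ χ : IrrCharacter G, classInner φ χ * (f χ / (χ : G → ℂ) 1)
      map_add' := fun φ ψ => by simp only [classInner_add_left, add_mul, Finset.sum_add_distrib]
      map_smul' := fun c φ => by
        simp only [classInner_smul_left, smul_eq_mul, RingHom.id_apply, Finset.mul_sum, mul_assoc] }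
  have h1 : L (regChar G) = ∑ χ : IrrCharacter G, f χ := Finset.sum_congr rfl fun χ _ => by
    rw [classInner_regChar_left, isChar_conj_one (irr_isChar χ), mul_div_cancel₀ _ (isIrr_one_ne_zero χ.2)]
  have h2 : ∀ {ψ : G → ℂ} {d : ℂ}, IsIrrCharacter G ψ → ψ 1 = d → L ψ = f ψ / d := by
    intro ψ d hψ hd
    change ∑ χ : IrrCharacter G, classInner ψ χ * (f χ / (χ : G → ℂ) 1) = _
    rw [Finset.sum_eq_single ⟨ψ, hψ⟩ (fun χ _ hχ => by
      rw [classInner_isIrr_ne hψ χ.2 fun e => hχ (Subtype.ext e.symm), zero_mul]) (by simp),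
      classInner_isIrr_self hψ, one_mul, ← hd]
  rw [← h1, reg_eq P C]
  simp only [map_add, map_smul, map_sum, smul_eq_mul]
  rw [h2 isIrr_one rfl, h2 (irr_St P) (val_St P).one, h2 (irr_W P C) (val_W P C).one,
    h2 (d := (2 * 𝐬 ^ 2 - 1) * 𝐬) (isIrr_conj (irr_W P C)) (by
      simp only [(val_W P C).one, map_mul, map_pow, map_ofNat, map_one, map_sub]),
    Finset.sum_congr rfl fun θ hθ => h2 (irr_X P θ.2 (mem_np.mp hθ)) (val_X P θ.2).one,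
    Finset.sum_congr rfl fun θ hθ => h2 (irr_Y P C θ.2 (mem_np.mp hθ)) (val_Y P C θ.2).one,
    Finset.sum_congr rfl fun (θ : IrrCharacter P.T') hθ =>
      h2 (irr_Y P.swap C θ.2 (mem_np.mp hθ)) (val_Y' P C θ.2).one,
    ← Finset.sum_div, ← Finset.sum_div, ← Finset.sum_div]
  obtain ⟨h1, h2, h3, h4, h5⟩ := ne_zeros P
  rw [h5]
  generalize 2 * 𝐬 ^ 2 - 1 = p at *
  generalize 2 * 𝐬 ^ 2 + 2 * P.u * 𝐬 + 1 = k at *
  generalize 2 * 𝐬 ^ 2 - 2 * P.u * 𝐬 + 1 = k' at *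
  have h6 : (2 * 𝐬 ^ 2) ^ 2 ≠ 0 := by simp
  generalize (2 * 𝐬 ^ 2) ^ 2 = w at *
  field_simp

theorem irr_cases {χ : G → ℂ} (h : IsIrrCharacter G χ) : χ = (fun _ => 1) ∨ χ = St Z ∨ χ = W P C ∨
    χ = (fun g => conj (W P C g)) ∨ (∃ θ : IrrCharacter Z.D, χ = X θ.1) ∨
    (∃ θ : IrrCharacter P.T, χ = Y P C θ.1) ∨ ∃ θ : IrrCharacter P.T', χ = Y P.swap C θ.1 := by
  classical
  by_contra hc
  push Not at hc
  obtain ⟨h1, h2, h3, h4, h5, h6, h7⟩ := hc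
  have := sum_irr P C fun ψ => if χ = ψ then 1 else 0
  rw [Finset.sum_eq_single ⟨χ, h⟩ (fun ψ _ hψ => if_neg fun e => hψ (Subtype.ext e.symm)) (by simp)] at this
  simp [h1, h2, h3, h4, h5, h6, h7] at this

theorem np_nonempty {T : Subgroup G} {e : ℕ} (h : CC T e) (h1 : (Nat.card T : ℂ) - 1 ≠ 0) :
    (np T).Nonempty := by
  rw [← Finset.card_pos, Nat.pos_iff_ne_zero]
  intro e
  rw [← card_np h, e] at h1
  exact h1 Nat.cast_zero

theorem card_T_ne : (Nat.card P.T : ℂ) - 1 ≠ 0 := by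
  have h1 := P.card
  have h2 : (2 : ℤ) ^ 1 ≤ 2 ^ m := pow_le_pow_right₀ (by norm_num) Z.one_le
  have : (Nat.card P.T : ℤ) - 1 ≠ 0 := by
    rcases P.hu with hu | hu <;> rw [hu] at h1 <;> nlinarith
  exact_mod_cast this

theorem card_mul : Nat.card P.T * Nat.card P.T' = Fintype.card F ^ 2 + 1 := by
  have : (Nat.card P.T * Nat.card P.T' : ℂ) = Fintype.card F ^ 2 + 1 := by
    rw [P.cast_T, P.cast_T', cast_q Z, (ne_zeros P).2.2.2.2]
  exact_mod_cast this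

theorem mem_charDegrees {d : ℕ} : d ∈ charDegrees G ↔ d = 1 ∨ d = Fintype.card F ^ 2 ∨
    d = (Fintype.card F - 1) * 2 ^ m ∨ d = Fintype.card F ^ 2 + 1 ∨ d = (Fintype.card F - 1) * Nat.card P.T' ∨
    d = (Fintype.card F - 1) * Nat.card P.T := by
  obtain ⟨C⟩ := nonempty_QC Z
  have key : ∀ {χ : G → ℂ} {n : ℕ}, χ 1 = n → charDegree χ = n := fun h => by simp [charDegree, h]
  have a : charDegree (St Z) = Fintype.card F ^ 2 := key (by rw [(val_St P).one, Nat.cast_pow, cast_q Z])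
  have b0 : W P C 1 = ((Fintype.card F - 1) * 2 ^ m : ℕ) := by
    rw [(val_W P C).one, Nat.cast_mul, cast_q_sub Z]; simp
  have b := key b0
  have b' : charDegree (fun g => conj (W P C g)) = (Fintype.card F - 1) * 2 ^ m := key (by
    simp only [b0, map_natCast])
  have c : ∀ θ : IrrCharacter Z.D, charDegree (X θ.1) = Fintype.card F ^ 2 + 1 := fun θ => key (by
    rw [(val_X P θ.2).one]; push_cast; rw [cast_q Z])
  have d : ∀ θ : IrrCharacter P.T, charDegree (Y P C θ.1) = (Fintype.card F - 1) * Nat.card P.T' :=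
    fun θ => key (by rw [(val_Y P C θ.2).one, Nat.cast_mul, cast_q_sub Z, P.cast_T'])
  have e : ∀ θ : IrrCharacter P.T', charDegree (Y P.swap C θ.1) = (Fintype.card F - 1) * Nat.card P.T :=
    fun θ => key (by rw [(val_Y' P C θ.2).one, Nat.cast_mul, cast_q_sub Z, P.cast_T])
  constructor
  · rintro ⟨⟨χ, hχ⟩, rfl⟩
    rcases irr_cases P C hχ with rfl | rfl | rfl | rfl | ⟨θ, rfl⟩ | ⟨θ, rfl⟩ | ⟨θ, rfl⟩
    · exact Or.inl (key (n := 1) (by simp))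
    all_goals simp only [a, b, b', c, d, e, true_or, or_true]
  · rintro (rfl | rfl | rfl | rfl | rfl | rfl)
    · exact ⟨⟨_, isIrr_one⟩, key (n := 1) (by simp)⟩
    · exact ⟨⟨_, irr_St P⟩, a⟩
    · exact ⟨⟨_, irr_W P C⟩, b⟩
    · obtain ⟨θ, hθ⟩ := np_nonempty (ccD Z) (by
        have h8 := Z.eight_le_q
        have : (Nat.card Z.D : ℤ) - 1 ≠ 0 := by rw [Z.card_D]; omega
        exact_mod_cast this)
      exact ⟨⟨_, irr_X P θ.2 (mem_np.mp hθ)⟩, c θ⟩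
    · obtain ⟨θ, hθ⟩ := np_nonempty P.cc (card_T_ne P)
      exact ⟨⟨_, irr_Y P C θ.2 (mem_np.mp hθ)⟩, d θ⟩
    · obtain ⟨θ, hθ⟩ := np_nonempty P.cc' (card_T_ne P.swap)
      exact ⟨⟨_, irr_Y P.swap C θ.2 (mem_np.mp hθ)⟩, e θ⟩

end Cfsg.Agent.SzC
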